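import Mathlib

/-!
# #17521 (9) (helper438): the stabiliser of two points is transitive on `B_p#`

`R r` (`r ∈ W`) are elementary abelian subgroups permuted by `Y`, every `1 ≠ b ∈ R r` fixes only `r`, and `R r` is transitive
on `W \ {r}`.

* `odd_order`: `1 ≠ b ∈ R p`, `1 ≠ b' ∈ R q`, `p ≠ q` ⟹ `b b'` has odd order;
* `exists_conj_two`: so `b, b'` are conjugate;
* `exists_conj`: the stabiliser of `p, q` is transitive on `R p \ {1}`.
-/

set_option autoImplicit false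
set_option linter.unusedSectionVars false

namespace Cfsg.Agent.Omega.NO1.HE.Trans

open Pointwise

variable {Y W : Type*} [Group Y] [Finite Y] [MulAction Y W] {R : W → Subgroup Y}

theorem mem_conj (hR : ∀ (y : Y) (r : W), R (y • r) = MulAut.conj y • R r) {y b : Y} {r : W} (hb : b ∈ R r) :
    y * b * y⁻¹ ∈ R (y • r) := by
  rw [hR]
  exact ⟨b, hb, rfl⟩

/-- `(b b')^k b (b b')^-k = (b b')^{2k} b` -/
theorem conj_pow_eq {b b' : Y} (h : b * b = 1) (h' : b' * b' = 1) (k : ℕ) :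
    (b * b') ^ k * b * ((b * b') ^ k)⁻¹ = (b * b') ^ (2 * k) * b := by
  have e1 : b * ((b * b') ^ k)⁻¹ = (b * b') ^ k * b := by
    rw [← inv_pow, mul_inv_rev]
    have e2 : b'⁻¹ = b' := inv_eq_of_mul_eq_one_left h'
    have e3 : b⁻¹ = b := inv_eq_of_mul_eq_one_left h
    rw [e2, e3]
    have e4 : SemiconjBy b (b' * b) (b * b') := by
      change b * (b' * b) = b * b' * b
      group
    exact (e4.pow_right k).eq
  rw [mul_assoc, e1, ← mul_assoc, ← pow_add, two_mul]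

theorem conj_pow_eq' {b b' : Y} (h : b * b = 1) (h' : b' * b' = 1) (k : ℕ) :
    (b * b') ^ k * b' * ((b * b') ^ k)⁻¹ = (b * b') ^ (2 * k) * b' := by
  have e1 : b' * ((b * b') ^ k)⁻¹ = (b * b') ^ k * b' := by
    rw [← inv_pow, mul_inv_rev]
    have e2 : b'⁻¹ = b' := inv_eq_of_mul_eq_one_left h'
    have e3 : b⁻¹ = b := inv_eq_of_mul_eq_one_left h
    rw [e2, e3]
    have e4 : SemiconjBy b' (b' * b) (b * b') := by
      change b' * (b' * b) = b * b' * b'
      rw [← mul_assoc, h', mul_assoc, h', one_mul, mul_one]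
    exact (e4.pow_right k).eq
  rw [mul_assoc, e1, ← mul_assoc, ← pow_add, two_mul]

section

variable (hR : ∀ (y : Y) (r : W), R (y • r) = MulAut.conj y • R r)
  (h1 : ∀ r, ∀ b ∈ R r, b ≠ 1 → ∀ s, b • s = s → s = r) (hf : ∀ r, ∀ b ∈ R r, b • r = r)
  (h2 : ∀ r, ∀ b ∈ R r, b * b = 1)

include hR h1 hf h2

theorem odd_order {p q : W} (hpq : p ≠ q) {b b' : Y} (hb : b ∈ R p) (hb1 : b ≠ 1) (hb' : b' ∈ R q)
    (hb1' : b' ≠ 1) : Odd (orderOf (b * b')) := by
  by_contra hodd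
  rw [Nat.not_odd_iff_even] at hodd
  obtain ⟨k, hk⟩ := hodd
  have hpos := orderOf_pos (b * b')
  set x := b * b' with hx
  have hb2 := h2 p b hb
  have hb2' := h2 q b' hb'
  have hj1 : x ^ k ≠ 1 := by
    intro h0
    have := orderOf_dvd_of_pow_eq_one h0
    have := Nat.le_of_dvd (by omega) this
    omega
  have hj2 : x ^ k * x ^ k = 1 := by rw [← pow_add, ← hk, pow_orderOf_eq_one]
  -- `j` commutes with `b` and `b'`
  have cb : b * x ^ k = x ^ k * b := by
    have e := conj_pow_eq hb2 hb2' k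
    rw [← hx, two_mul, pow_add, hj2, one_mul, mul_inv_eq_iff_eq_mul] at e
    exact e.symm
  have cb' : b' * x ^ k = x ^ k * b' := by
    have e := conj_pow_eq' hb2 hb2' k
    rw [← hx, two_mul, pow_add, hj2, one_mul, mul_inv_eq_iff_eq_mul] at e
    exact e.symm
  have fp : x ^ k • p = p := by
    apply h1 p b hb hb1
    rw [← mul_smul, cb, mul_smul, hf p b hb]
  have fq : x ^ k • q = q := by
    apply h1 q b' hb' hb1'
    rw [← mul_smul, cb', mul_smul, hf q b' hb']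
  -- `x^k b` is conjugate to `b` or `b'`
  have key : ∃ r, x ^ k * b ∈ R r := by
    rcases Nat.even_or_odd k with ⟨m, hm⟩ | ⟨m, hm⟩
    · refine ⟨x ^ m • p, ?_⟩
      have e := conj_pow_eq hb2 hb2' m
      rw [← hx] at e
      have e2 : x ^ k * b = x ^ m * b * (x ^ m)⁻¹ := by rw [e, hm, two_mul]
      rw [e2]
      exact mem_conj hR hb
    · -- `x^k b = x^{2m} (x b) = x^{2m} b b' b = b (..)`; use `b b' b` conjugate of `b'`
      have e := conj_pow_eq' hb2 hb2' (m + 1)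
      rw [← hx] at e
      have e2 : x ^ k * b = x ^ (m + 1) * b' * (x ^ (m + 1))⁻¹ := by
        rw [e]
        have e3 : x * b' = b := by rw [hx, mul_assoc, hb2', mul_one]
        rw [hm, show 2 * (m + 1) = 2 * m + 1 + 1 by ring, pow_succ x (2 * m + 1), mul_assoc _ x b', e3]
      rw [e2]
      exact ⟨_, mem_conj hR hb'⟩
  obtain ⟨r, hr⟩ := key
  have hne : x ^ k * b ≠ 1 := by
    intro h0
    -- `x^k = b`, then `b` fixes `q`
    have h3 : x ^ k = b := by
      rw [mul_eq_one_iff_eq_inv] at h0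
      rw [h0, inv_eq_of_mul_eq_one_left hb2]
    rw [h3] at fq
    exact hpq (h1 p b hb hb1 q fq).symm
  have hrp : r = p := by
    have h3 : b • r = r := by
      apply h1 r _ hr hne
      rw [← mul_smul, mul_assoc, hb2, mul_one]
      have h4 : (x ^ k * b) • r = r := hf r _ hr
      rw [← cb, mul_smul] at h4
      have h5 : b • b • x ^ k • r = b • r := congrArg (fun s => b • s) h4
      rw [← mul_smul, hb2, one_smul] at h5
      exact h5
    exact h1 p b hb hb1 r h3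
  rw [hrp] at hr
  have hj : x ^ k ∈ R p := by
    have h3 := mul_mem hr hb
    rwa [mul_assoc, hb2, mul_one] at h3
  exact hpq (h1 p _ hj hj1 q fq).symm

theorem exists_conj_two {p q : W} (hpq : p ≠ q) {b b' : Y} (hb : b ∈ R p) (hb1 : b ≠ 1) (hb' : b' ∈ R q)
    (hb1' : b' ≠ 1) : ∃ g : Y, g * b * g⁻¹ = b' := by
  obtain ⟨k, hk⟩ := odd_order hR h1 hf h2 hpq hb hb1 hb' hb1'
  have hb2 := h2 p b hb
  have hb2' := h2 q b' hb'
  refine ⟨(b * b') ^ k, ?_⟩
  rw [conj_pow_eq hb2 hb2']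
  have h3 : (b * b') ^ (2 * k) * (b * b') = 1 := by
    rw [← pow_succ, ← hk, pow_orderOf_eq_one]
  rw [← mul_assoc] at h3
  rw [mul_eq_one_iff_eq_inv.1 h3, inv_eq_of_mul_eq_one_left hb2']

/-- **(9)** -/
theorem exists_conj (hc : ∀ r, ∀ a ∈ R r, ∀ b ∈ R r, a * b = b * a)
    (ht : ∀ r s t, s ≠ r → t ≠ r → ∃ b ∈ R r, b • s = t) :
    ∀ p q, p ≠ q → ∀ b1 ∈ R p, ∀ b2 ∈ R p, b1 ≠ 1 → b2 ≠ 1 →
      ∃ g : Y, g • p = p ∧ g • q = q ∧ g * b1 * g⁻¹ = b2 := by
  intro p q hpq b1 hb1 b2 hb2 n1 n2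
  -- a non-trivial element of `R q`
  obtain ⟨b', hb', n'⟩ : ∃ b' ∈ R q, b' ≠ 1 := by
    have hr1 : b1 • q ≠ q := fun h0 => hpq (h1 p b1 hb1 n1 q h0).symm
    have hr2 : b1 • q ≠ p := by
      intro h0
      have h3 : b1 • b1 • q = b1 • p := congrArg (fun s => b1 • s) h0
      rw [← mul_smul, h2 p b1 hb1, one_smul, hf p b1 hb1] at h3
      exact hpq h3.symm
    obtain ⟨c, -, hcq⟩ := ht (b1 • q) p q hr2.symm hr1.symm
    refine ⟨c * b1 * c⁻¹, ?_, ?_⟩
    · rw [← hcq]; exact mem_conj hR hb1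
    · intro h0
      apply n1
      have : b1 = c⁻¹ * (c * b1 * c⁻¹) * c := by group
      rw [this, h0]; group
  obtain ⟨g1, hg1⟩ := exists_conj_two hR h1 hf h2 hpq hb1 n1 hb' n'
  obtain ⟨g2, hg2⟩ := exists_conj_two hR h1 hf h2 hpq.symm hb' n' hb2 n2
  set g := g2 * g1 with hg
  have hgb : g * b1 * g⁻¹ = b2 := by
    rw [hg, ← hg2, ← hg1]; group
  have hgp : g • p = p := by
    apply h1 p b2 hb2 n2
    rw [← hgb, ← mul_smul]
    have : g * b1 * g⁻¹ * g = g * b1 := by group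
    rw [this, mul_smul, hf p b1 hb1]
  have hgq : g • q ≠ p := by
    intro h0
    apply hpq
    rw [← hgp] at h0
    exact (MulAction.injective g h0).symm
  obtain ⟨c, hcp, hcq⟩ := ht p (g • q) q hgq hpq.symm
  refine ⟨c * g, ?_, ?_, ?_⟩
  · rw [mul_smul, hgp, hf p c hcp]
  · rw [mul_smul, hcq]
  · have : c * g * b1 * (c * g)⁻¹ = c * (g * b1 * g⁻¹) * c⁻¹ := by group
    rw [this, hgb, hc p c hcp b2 hb2, mul_inv_cancel_right]

end

end Cfsg.Agent.Omega.NO1.HE.Trans
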