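import Cfsg.Agent.Omega.NO1.HE.Sys

/-!
# (11) of text #17521: `φ b x = N(b) x`

* `hua` : an additive `f` with `f 1 = 1`, `f (s⁻¹) = f s * s⁻¹` satisfies `f (s²) = s`;
* `Q.lin`, `Q.sq` : `φ` is `k`-linear in `x` and quadratic in `b`;
* `normStmt : NormStmt`.
-/

set_option autoImplicit false

namespace Cfsg.Agent.Omega.NO1.HE

universe u

section Hua

variable {k : Type*} [Field k]

theorem hua (h2 : ∀ t : k, t + t = 0) (f : k → k) (hadd : ∀ s t, f (s + t) = f s + f t) (h1 : f 1 = 1)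
    (h : ∀ s, s ≠ 0 → f s⁻¹ = f s * s⁻¹) (s : k) : f (s * s) = s := by
  have h0 : f 0 = 0 := by
    have := hadd 0 0
    rw [add_zero, h2] at this
    exact this
  by_cases hs : s = 0
  · rw [hs, mul_zero, h0]
  by_cases hs1 : s = 1
  · rw [hs1, mul_one, h1]
  have hs2 : 1 + s ≠ 0 := by
    intro h3
    apply hs1
    calc s = 1 + (1 + s) := by rw [← add_assoc, h2, zero_add]
      _ = 1 := by rw [h3, add_zero]
  have hk : s * (1 + s) ≠ 0 := mul_ne_zero hs hs2
  have e1 : (s * (1 + s))⁻¹ = s⁻¹ + (1 + s)⁻¹ := by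
    have h3 : s⁻¹ + (1 + s)⁻¹ = (1 + (s + s)) * (s * (1 + s))⁻¹ := by
      field_simp
      ring
    rw [h3, h2, add_zero, one_mul]
  have h4 := h _ hk
  rw [e1, hadd, h s hs, h _ hs2, hadd 1 s, h1] at h4
  have h5 : f (s * (1 + s)) = f s + f (s * s) := by
    rw [mul_add, mul_one, hadd]
  rw [h5] at h4
  have h6 : f s + f (s * s) = (f s * s⁻¹ + (1 + f s) * (1 + s)⁻¹) * (s * (1 + s)) := by
    rw [h4, ← e1, mul_assoc, inv_mul_cancel₀ hk, mul_one]
  have h7 : (f s * s⁻¹ + (1 + f s) * (1 + s)⁻¹) * (s * (1 + s)) = f s + s + (f s * s + f s * s) := by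
    field_simp
    ring
  rw [h7, h2, add_zero] at h6
  exact add_left_cancel h6

end Hua

variable {B X M D : Type u} [AddCommGroup B] [AddCommGroup X] [AddCommGroup M] [AddCommGroup D]

namespace Fld

variable {S : Sys B X M D} {k : Type u} [Field k] [Module k B] (F : Fld S k)
include F

theorem two (t : k) : t + t = 0 := by
  obtain ⟨x, rfl⟩ := F.eX.surjective t
  rw [← map_add, S.twoX, map_zero]

/-- `φ b` in coordinates -/
def ph (b : B) (t : k) : k := F.eD (S.φ b (F.eX.symm t))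

theorem ph_eX (b : B) (x : X) : F.ph b (F.eX x) = F.eD (S.φ b x) := by
  rw [ph, AddEquiv.symm_apply_apply]

theorem ph_add (b : B) (s t : k) : F.ph b (s + t) = F.ph b s + F.ph b t := by
  rw [ph, map_add, map_add, map_add]
  rfl

theorem ph_zero (b : B) : F.ph b 0 = 0 := by
  rw [ph, map_zero, map_zero, map_zero]

theorem f_smul' (r : k) (b c : B) : F.f b (r • c) = r * F.f b c := by
  rw [F.f_symm, F.f_smul, F.f_symm]

theorem ph_add_left (a b : B) (t : k) : F.ph (a + b) t = F.ph a t + F.ph b t + t * F.f b a := by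
  rw [ph, S.φ_add, map_add, map_add, F.hl, F.hτ, AddEquiv.apply_symm_apply, F.f_smul']
  rfl

theorem ph_inj {b : B} (hb : b ≠ 0) : Function.Injective (F.ph b) := fun _ _ h =>
  F.eX.symm.injective (S.φ_inj b hb (F.eD.injective h))

theorem ph_surj {b : B} (hb : b ≠ 0) : Function.Surjective (F.ph b) := by
  intro t
  obtain ⟨x, hx⟩ := S.φ_surj b hb (F.eD.symm t)
  exact ⟨F.eX x, by rw [ph_eX, hx, AddEquiv.apply_symm_apply]⟩

theorem ph_ne {b : B} (hb : b ≠ 0) {t : k} (ht : t ≠ 0) : F.ph b t ≠ 0 := fun h =>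
  ht (F.ph_inj hb (h.trans (F.ph_zero b).symm))

theorem f_surj {b : B} (hb : b ≠ 0) (y : k) : ∃ m, F.f b m = y := by
  obtain ⟨m, hm⟩ := S.l_surj b hb (F.eD.symm y)
  exact ⟨F.eM m, by rw [← F.hl, hm, AddEquiv.apply_symm_apply]⟩

/-- (R) for `b`, `r b` -/
theorem op {b : B} (hb : b ≠ 0) {r : k} (hr : r ≠ 0) (hr1 : r ≠ 1) : ∃ c, c ≠ 0 ∧
    (∀ s t, F.ph b s = F.ph (r • b) t → F.ph c (s + t) = F.ph b s ∧ (s + t) • c = (s + r * t) • b) ∧
    (∀ m s t, F.ph b s = F.f b m → F.ph (r • b) t = r * F.f b m → F.ph c (s + t) = F.f c m) := by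
  have hrb : r • b ≠ 0 := smul_ne_zero hr hb
  have hne : b ≠ r • b := by
    intro h
    have h1 : (r - 1) • b = 0 := by rw [sub_smul, one_smul, ← h, sub_self]
    rcases smul_eq_zero.1 h1 with h2 | h2
    · exact hr1 (sub_eq_zero.1 h2)
    · exact hb h2
  obtain ⟨c, hc, h1, h2⟩ := S.op b (r • b) hb hrb hne
  refine ⟨c, hc, ?_, ?_⟩
  · intro s t hst
    obtain ⟨z, hz1, hz2, hz3⟩ := h1 (F.eX.symm s) (F.eX.symm t) (F.eD.injective hst)
    have h3 : S.l (r • b) (S.τ b (F.eX.symm s)) = 0 := by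
      apply F.eD.injective
      rw [F.hl, F.hτ, F.f_smul', F.f_smul, F.f_self, mul_zero, mul_zero, map_zero]
    rw [h3] at hz3
    have h4 : z + F.eX.symm s + F.eX.symm t = 0 := S.φ_inj _ hrb (hz3.trans (map_zero _).symm)
    have h5 : F.eX z = s + t := by
      have h6 := congrArg F.eX h4
      rw [map_add, map_add, AddEquiv.apply_symm_apply, AddEquiv.apply_symm_apply, map_zero] at h6
      calc F.eX z = F.eX z + s + t + (s + t) := by
            have h7 : F.eX z + s + t + (s + t) = F.eX z + (s + s) + (t + t) := by ring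
            rw [h7, F.two, F.two, add_zero, add_zero]
        _ = s + t := by rw [h6, zero_add]
    constructor
    · rw [← h5, ph_eX, hz1]
      rfl
    · have h6 := congrArg F.eM hz2
      rw [map_add, F.hτ, F.hτ, F.hτ, AddEquiv.apply_symm_apply, AddEquiv.apply_symm_apply, h5, smul_smul,
        ← add_smul, mul_comm t r] at h6
      exact h6
  · intro m s t hs ht
    have h3 := h2 (F.eM.symm m) (F.eX.symm s) (F.eX.symm t) (by
      apply F.eD.injective
      rw [F.hl, AddEquiv.apply_symm_apply]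
      exact hs) (by
      apply F.eD.injective
      rw [F.hl, AddEquiv.apply_symm_apply, F.f_smul]
      exact ht)
    have h4 := congrArg F.eD h3
    rw [F.hl, AddEquiv.apply_symm_apply, ← map_add] at h4
    exact h4

/-- the scalar `μ` -/
theorem exists_mu {b : B} (hb : b ≠ 0) {r : k} (hr : r ≠ 0) (hr1 : r ≠ 1) : ∃ μ γ : k, μ ≠ 0 ∧
    (∀ s, F.ph (r • b) (μ * s) = F.ph b s) ∧ (∀ s, F.ph b (μ * s) = μ * F.ph b s) ∧
    γ * (1 + μ) = 1 + r * μ ∧ (∀ s, F.ph (γ • b) ((1 + μ) * s) = F.ph b s) := by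
  obtain ⟨c, hc, h1, h2⟩ := F.op hb hr hr1
  have hrb : r • b ≠ 0 := smul_ne_zero hr hb
  -- the function `t (s)`
  choose t ht using fun s => F.ph_surj hrb (F.ph b s)
  have h3 : ∀ s, s ≠ 0 → s + t s ≠ 0 := by
    intro s hs h0
    have h4 := (h1 s (t s) (ht s).symm).2
    have h5 : t s = s := by
      calc t s = s + (s + t s) := by rw [← add_assoc, F.two, zero_add]
        _ = s := by rw [h0, add_zero]
    rw [h0, zero_smul, h5] at h4
    rcases smul_eq_zero.1 h4.symm with h6 | h6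
    · have h7 : s * (1 + r) = 0 := by rw [← h6]; ring
      rcases mul_eq_zero.1 h7 with h8 | h8
      · exact hs h8
      · apply hr1
        calc r = 1 + (1 + r) := by rw [← add_assoc, F.two, zero_add]
          _ = 1 := by rw [h8, add_zero]
    · exact hb h6
  have hne1 : (1 : k) + t 1 ≠ 0 := h3 1 one_ne_zero
  set γ : k := (1 + t 1)⁻¹ * (1 + r * t 1) with hγ
  have hcγ : c = γ • b := by
    have h4 := (h1 1 (t 1) (ht 1).symm).2
    rw [hγ, mul_smul, ← h4, smul_smul, inv_mul_cancel₀ hne1, one_smul]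
  have hsc : ∀ s, (s + t s) * γ = s + r * t s := by
    intro s
    have h4 := (h1 s (t s) (ht s).symm).2
    rw [hcγ, smul_smul, ← sub_eq_zero, ← sub_smul] at h4
    rcases smul_eq_zero.1 h4 with h5 | h5
    · exact sub_eq_zero.1 h5
    · exact absurd h5 hb
  have key : ∀ s, t s * (γ + r) = s * (1 + γ) := by
    intro s
    have h4 := hsc s
    calc t s * (γ + r) = (s + t s) * γ + r * t s + s * γ - (s * γ + s * γ) := by ring
      _ = (s + r * t s) + r * t s + s * γ := by rw [F.two, sub_zero, h4]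
      _ = s * (1 + γ) + (r * t s + r * t s) := by ring
      _ = s * (1 + γ) := by rw [F.two, add_zero]
  have hγr : γ + r ≠ 0 := by
    intro h0
    have h4 := key 1
    rw [h0, mul_zero, one_mul] at h4
    apply hr1
    have h5 : γ = r := by
      calc γ = γ + r + r := by rw [add_assoc, F.two, add_zero]
        _ = r := by rw [h0, zero_add]
    rw [h5] at h4
    calc r = 1 + (1 + r) := by rw [← add_assoc, F.two, zero_add]
      _ = 1 := by rw [← h4, add_zero]
  set μ : k := (1 + γ) * (γ + r)⁻¹ with hμ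
  have hμγ : μ * (γ + r) = 1 + γ := by rw [hμ, mul_assoc, inv_mul_cancel₀ hγr, mul_one]
  have htμ : ∀ s, t s = μ * s := by
    intro s
    have h4 : t s = t s * (γ + r) * (γ + r)⁻¹ := by rw [mul_assoc, mul_inv_cancel₀ hγr, mul_one]
    rw [h4, key, hμ]
    ring
  have hA : ∀ s, F.ph (r • b) (μ * s) = F.ph b s := fun s => by rw [← htμ]; exact ht s
  have hB : ∀ s, F.ph (γ • b) ((1 + μ) * s) = F.ph b s := by
    intro s
    have h4 := (h1 s (t s) (ht s).symm).1
    rw [hcγ, htμ] at h4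
    have e : (1 + μ) * s = s + μ * s := by ring
    rw [e]
    exact h4
  have hμ0 : μ ≠ 0 := by
    intro h0
    have h4 := hA 1
    rw [h0, zero_mul, ph_zero] at h4
    exact F.ph_ne hb one_ne_zero h4.symm
  refine ⟨μ, γ, hμ0, hA, ?_, ?_, hB⟩
  · -- linearity
    have h4 : ∀ y s₁ s₂ s₃, F.ph b s₁ = γ * y → F.ph b s₂ = y → F.ph b s₃ = r * y →
        (1 + μ) * s₁ = s₂ + μ * s₃ := by
      intro y s₁ s₂ s₃ e1 e2 e3
      obtain ⟨m, hm⟩ := F.f_surj hb y
      have h5 := h2 m s₂ (μ * s₃) (by rw [e2, hm]) (by rw [hA, e3, hm])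
      rw [hcγ, F.f_smul, hm, ← e1, ← hB] at h5
      have hγb : γ • b ≠ 0 := hcγ ▸ hc
      exact (F.ph_inj hγb h5).symm
    intro s
    -- `y = ph b s / (γ + r)`
    obtain ⟨s₂, e2⟩ := F.ph_surj hb (F.ph b s * (γ + r)⁻¹)
    obtain ⟨s₁, e1⟩ := F.ph_surj hb (γ * (F.ph b s * (γ + r)⁻¹))
    obtain ⟨s₃, e3⟩ := F.ph_surj hb (r * (F.ph b s * (γ + r)⁻¹))
    have h5 := h4 _ s₁ s₂ s₃ e1 e2 e3
    have h6 : s₁ + s₃ = s := by
      apply F.ph_inj hb
      rw [F.ph_add, e1, e3]
      calc γ * (F.ph b s * (γ + r)⁻¹) + r * (F.ph b s * (γ + r)⁻¹) = F.ph b s * ((γ + r) * (γ + r)⁻¹) := by ring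
        _ = F.ph b s := by rw [mul_inv_cancel₀ hγr, mul_one]
    have h7 : s₁ + s₂ = μ * s := by
      calc s₁ + s₂ = (1 + μ) * s₁ + μ * s₁ + s₂ - (μ * s₁ + μ * s₁) := by ring
        _ = s₂ + μ * s₃ + μ * s₁ + s₂ := by rw [F.two, sub_zero, h5]
        _ = μ * (s₁ + s₃) + (s₂ + s₂) := by ring
        _ = μ * s := by rw [F.two, add_zero, h6]
    rw [← h7, F.ph_add, e1, e2]
    calc γ * (F.ph b s * (γ + r)⁻¹) + F.ph b s * (γ + r)⁻¹ = ((1 + γ) * (γ + r)⁻¹) * F.ph b s := by ring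
      _ = μ * F.ph b s := by rw [hμ]
  · have h4 := hsc 1
    rw [htμ, mul_one] at h4
    rw [mul_comm]
    exact h4

/-- the map `r ↦ φ (r b) / φ b` -/
def rho (b : B) (r : k) : k := F.ph (r • b) 1 * (F.ph b 1)⁻¹

theorem rho_add (b : B) (r s : k) : F.rho b (r + s) = F.rho b r + F.rho b s := by
  rw [rho, rho, rho, add_smul, ph_add_left, F.f_smul, F.f_smul', F.f_self, mul_zero, mul_zero, mul_zero,
    add_zero, add_mul]

theorem rho_one {b : B} (hb : b ≠ 0) : F.rho b 1 = 1 := by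
  rw [rho, one_smul, mul_inv_cancel₀ (F.ph_ne hb one_ne_zero)]

theorem ph_zero_left (t : k) : F.ph 0 t = 0 := by
  have h1 := F.ph_add_left 0 0 t
  rw [add_zero, F.f_self, mul_zero, add_zero, F.two] at h1
  exact h1

theorem rho_zero (b : B) : F.rho b 0 = 0 := by
  rw [rho, zero_smul, ph_zero_left, zero_mul]

theorem rho_mu {b : B} (hb : b ≠ 0) {r μ : k} (hμ : μ ≠ 0) (h1 : ∀ s, F.ph (r • b) (μ * s) = F.ph b s)
    (h2 : ∀ s, F.ph b (μ * s) = μ * F.ph b s) : F.rho b r = μ⁻¹ := by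
  have h3 : F.ph (r • b) 1 = F.ph b μ⁻¹ := by
    rw [← h1, mul_inv_cancel₀ hμ]
  have h4 : μ * F.ph b μ⁻¹ = F.ph b 1 := by rw [← h2, mul_inv_cancel₀ hμ]
  have h5 := F.ph_ne hb one_ne_zero
  rw [rho, h3]
  calc F.ph b μ⁻¹ * (F.ph b 1)⁻¹ = μ⁻¹ * (μ * F.ph b μ⁻¹) * (F.ph b 1)⁻¹ := by
        rw [← mul_assoc μ⁻¹, inv_mul_cancel₀ hμ, one_mul]
    _ = μ⁻¹ := by rw [h4, mul_assoc, mul_inv_cancel₀ h5, mul_one]

theorem rho_ne {b : B} (hb : b ≠ 0) {r : k} (hr : r ≠ 0) : F.rho b r ≠ 0 := by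
  rw [rho]
  exact mul_ne_zero (F.ph_ne (smul_ne_zero hr hb) one_ne_zero) (inv_ne_zero (F.ph_ne hb one_ne_zero))

theorem rho_inj {b : B} (hb : b ≠ 0) : Function.Injective (F.rho b) := by
  intro r s hrs
  by_contra hne
  have h1 : r + s ≠ 0 := by
    intro h0
    apply hne
    calc r = r + (s + s) := by rw [F.two, add_zero]
      _ = (r + s) + s := by ring
      _ = s := by rw [h0, zero_add]
  apply F.rho_ne hb h1
  rw [rho_add, hrs, F.two]

theorem rho_surj [Finite k] {b : B} (hb : b ≠ 0) : Function.Surjective (F.rho b) :=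
  Finite.surjective_of_injective (F.rho_inj hb)

theorem lin_rho {b : B} (hb : b ≠ 0) (r s : k) : F.ph b (F.rho b r * s) = F.rho b r * F.ph b s := by
  by_cases hr : r = 0
  · rw [hr, rho_zero, zero_mul, ph_zero, zero_mul]
  by_cases hr1 : r = 1
  · rw [hr1, F.rho_one hb, one_mul, one_mul]
  obtain ⟨μ, γ, hμ, h1, h2, -, -⟩ := F.exists_mu hb hr hr1
  rw [F.rho_mu hb hμ h1 h2]
  have h3 : F.ph b s = μ * F.ph b (μ⁻¹ * s) := by
    rw [← h2, ← mul_assoc, mul_inv_cancel₀ hμ, one_mul]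
  rw [h3, ← mul_assoc, inv_mul_cancel₀ hμ, one_mul]

/-- `q b = φ b 1` -/
def q (b : B) : k := F.ph b 1

/-- `φ b` is `k`-linear. -/
theorem lin [Finite k] (b : B) (t : k) : F.ph b t = t * F.q b := by
  by_cases hb : b = 0
  · rw [hb, q, ph_zero_left, ph_zero_left, mul_zero]
  obtain ⟨r, rfl⟩ := F.rho_surj hb t
  have h1 := F.lin_rho hb r 1
  rwa [mul_one] at h1

theorem rho_sq [Finite k] {b : B} (hb : b ≠ 0) (r : k) : F.rho b r = r * r := by
  choose g hg using F.rho_surj hb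
  have hg' : ∀ r, g (F.rho b r) = r := fun r => F.rho_inj hb (hg _)
  have hadd : ∀ s t, g (s + t) = g s + g t := fun s t => by
    apply F.rho_inj hb
    rw [hg, rho_add, hg, hg]
  have h1 : g 1 = 1 := by
    apply F.rho_inj hb
    rw [hg, F.rho_one hb]
  have h0 : g 0 = 0 := by
    apply F.rho_inj hb
    rw [hg, F.rho_zero]
  -- the relation
  have hrel : ∀ p, p ≠ 0 → p ≠ 1 → g (p * (1 + p)⁻¹) = (p + g p) * (1 + p)⁻¹ := by
    intro p hp hp1
    have hr : g p ≠ 0 := by
      intro h2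
      apply hp
      rw [← hg p, h2, rho_zero]
    have hr1 : g p ≠ 1 := by
      intro h2
      apply hp1
      rw [← hg p, h2, F.rho_one hb]
    have hp2 : 1 + p ≠ 0 := by
      intro h2
      apply hp1
      calc p = 1 + (1 + p) := by rw [← add_assoc, F.two, zero_add]
        _ = 1 := by rw [h2, add_zero]
    obtain ⟨μ, γ, hμ, e1, e2, e3, e4⟩ := F.exists_mu hb hr hr1
    have e5 := F.rho_mu hb hμ e1 e2
    rw [hg] at e5
    -- `μ = p⁻¹`
    have e6 : μ = p⁻¹ := by rw [e5, inv_inv]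
    have e7 : 1 + μ ≠ 0 := by
      intro h2
      have h3 := e4 1
      rw [h2, zero_mul, ph_zero] at h3
      exact F.ph_ne hb one_ne_zero h3.symm
    have e8 : F.rho b γ * (1 + μ) = 1 := by
      have h3 := e4 1
      have h4 : F.ph (γ • b) ((1 + μ) * 1) = (1 + μ) * F.ph (γ • b) 1 := by
        rw [F.lin (γ • b), mul_one, q]
      rw [h4] at h3
      rw [rho, mul_comm, ← mul_assoc, h3, mul_inv_cancel₀ (F.ph_ne hb one_ne_zero)]
    have e9 : F.rho b γ = p * (1 + p)⁻¹ := by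
      have h3 : 1 + μ = (1 + p) * p⁻¹ := by
        rw [e6, add_mul, mul_inv_cancel₀ hp, one_mul, add_comm]
      rw [h3] at e8
      calc F.rho b γ = F.rho b γ * ((1 + p) * p⁻¹) * (p * (1 + p)⁻¹) := by
            field_simp
        _ = p * (1 + p)⁻¹ := by rw [e8, one_mul]
    rw [← e9, hg']
    have h3 : 1 + μ = (1 + p) * p⁻¹ := by
      rw [e6, add_mul, mul_inv_cancel₀ hp, one_mul, add_comm]
    have h4 : 1 + g p * μ = (p + g p) * p⁻¹ := by
      rw [e6, add_mul, mul_inv_cancel₀ hp]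
    rw [h3, h4] at e3
    calc γ = γ * ((1 + p) * p⁻¹) * (p * (1 + p)⁻¹) := by field_simp
      _ = (p + g p) * p⁻¹ * (p * (1 + p)⁻¹) := by rw [e3]
      _ = (p + g p) * (1 + p)⁻¹ := by field_simp
  have hinv : ∀ s, s ≠ 0 → g s⁻¹ = g s * s⁻¹ := by
    intro s hs
    by_cases hs1 : s = 1
    · rw [hs1, inv_one, mul_one]
    have hp : 1 + s ≠ 0 := by
      intro h2
      apply hs1
      calc s = 1 + (1 + s) := by rw [← add_assoc, F.two, zero_add]
        _ = 1 := by rw [h2, add_zero]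
    have hp1 : 1 + s ≠ 1 := by
      intro h2
      exact hs (by simpa using h2)
    have h3 := hrel (1 + s) hp hp1
    have e1 : 1 + (1 + s) = s := by rw [← add_assoc, F.two, zero_add]
    have e2 : (1 + s) * s⁻¹ = 1 + s⁻¹ := by
      rw [add_mul, one_mul, mul_inv_cancel₀ hs, add_comm]
    rw [e1, e2, hadd, hadd 1 s, h1] at h3
    have e3 : (1 + s + (1 + g s)) * s⁻¹ = 1 + g s * s⁻¹ := by
      have e4 : (1 + s + (1 + g s)) = s + g s + (1 + 1) := by ring
      rw [e4, F.two, add_zero, add_mul, mul_inv_cancel₀ hs]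
    rw [e3] at h3
    exact add_left_cancel h3
  have h3 := hua F.two g hadd h1 hinv r
  rw [← hg (r * r), h3]

/-- `q` is quadratic. -/
theorem q_smul [Finite k] (r : k) (b : B) : F.q (r • b) = r * r * F.q b := by
  by_cases hb : b = 0
  · rw [hb, smul_zero, q, ph_zero_left, mul_zero]
  · have h1 := F.rho_sq hb r
    have h2 := F.ph_ne hb one_ne_zero
    rw [← h1, rho, q, q, mul_assoc, inv_mul_cancel₀ h2, mul_one]

theorem q_add (a b : B) : F.q (a + b) = F.q a + F.q b + F.f b a := by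
  rw [q, ph_add_left, one_mul]
  rfl

theorem q_ne {b : B} (hb : b ≠ 0) : F.q b ≠ 0 := F.ph_ne hb one_ne_zero

/-- `f` is the polar form of `q`. -/
theorem f_eq (a b : B) : F.f b a = F.q (a + b) + F.q a + F.q b := by
  rw [q_add]
  have h1 : F.q a + F.q b + F.f b a + F.q a + F.q b = F.f b a + (F.q a + F.q a) + (F.q b + F.q b) := by ring
  rw [h1, F.two, F.two, add_zero, add_zero]

theorem neg_eq (t : k) : -t = t := neg_eq_of_add_eq_zero_left (F.two t)

end Fld

open QuadraticAlgebra in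
/-- **(11)** -/
theorem normStmt : NormStmt.{u} := by
  rintro B X M D _ _ _ _ _ S k _ _ _ ⟨F⟩
  obtain ⟨b₁, hb₁⟩ := S.ntB
  set α := F.q b₁ with hα
  have hα0 : α ≠ 0 := F.q_ne hb₁
  obtain ⟨b₂, hb₂⟩ := F.f_surj hb₁ α
  set β := F.q b₂ * α⁻¹ with hβ
  have hβα : F.q b₂ = α * β := by rw [hβ, mul_comm, mul_assoc, inv_mul_cancel₀ hα0, mul_one]
  -- the quadratic form
  have hq : ∀ x y : k, F.q (x • b₁ + y • b₂) = α * (x * x + x * y + β * (y * y)) := by
    intro x y
    rw [F.q_add, F.q_smul, F.q_smul, F.f_smul, F.f_smul', F.f_symm, hb₂, hβα, ← hα]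
    ring
  have hfact : Fact (∀ r : k, r ^ 2 ≠ β + 1 * r) := by
    refine ⟨fun r hr => ?_⟩
    have h1 : r • b₁ + (1 : k) • b₂ ≠ 0 := by
      intro h0
      have h2 := congrArg (F.f b₁) h0
      have h3 : F.f b₁ 0 = 0 := by
        have := F.f_smul' 0 b₁ 0
        rwa [smul_zero, zero_mul] at this
      rw [F.f_symm, F.f_add, F.f_smul, F.f_smul, F.f_self, mul_zero, zero_add, one_mul, F.f_symm, hb₂, h3] at h2
      exact hα0 h2
    apply F.q_ne h1
    rw [hq]
    have h2 : r * r = β + r := by rw [← pow_two, hr, one_mul]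
    rw [h2]
    have h3 : β + r + r * 1 + β * (1 * 1) = (β + β) + (r + r) := by ring
    rw [h3, F.two, F.two, add_zero, mul_zero]
  let K₀ := QuadraticAlgebra k β 1
  -- the norm
  have hN : ∀ z : K₀, F.q (z.re • b₁ + z.im • b₂) = α * norm z := by
    intro z
    rw [hq, norm_def, sub_eq_add_neg, F.neg_eq, one_mul, mul_assoc β]
  have two₀ : ∀ z : K₀, z + z = 0 := by
    intro z
    ext
    · rw [re_add, F.two]; rfl
    · rw [im_add, F.two]; rfl
  -- the isomorphism `B = K₀`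
  let e₀ : K₀ →+ B :=
    { toFun := fun z => z.re • b₁ + z.im • b₂
      map_zero' := by rw [re_zero, im_zero, zero_smul, zero_smul, add_zero]
      map_add' := fun z w => by
        rw [re_add, im_add, add_smul, add_smul]
        abel }
  have he₀ : ∀ z, e₀ z = z.re • b₁ + z.im • b₂ := fun _ => rfl
  have hinj : Function.Injective e₀ := by
    rw [injective_iff_map_eq_zero]
    intro z hz
    by_contra hne
    have h1 : F.q (e₀ z) = α * norm z := hN z
    rw [hz] at h1
    have h2 : F.q 0 = 0 := F.ph_zero_left 1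
    rw [h2] at h1
    have h3 : norm z = 0 := by
      rcases mul_eq_zero.1 h1.symm with h4 | h4
      · exact absurd h4 hα0
      · exact h4
    exact hne (norm_eq_zero_iff_eq_zero.1 h3)
  have hsurj : Function.Surjective e₀ := by
    intro b
    set y := F.f b₁ b * α⁻¹ with hy
    have h1 : F.f b₁ (b + y • b₂) = 0 := by
      rw [F.f_symm, F.f_add, F.f_smul, F.f_symm b, F.f_symm b₂, hb₂, hy, mul_assoc, inv_mul_cancel₀ hα0, mul_one,
        F.two]
    obtain ⟨x, hx⟩ := F.f_ker b₁ _ hb₁ h1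
    refine ⟨⟨x, y⟩, ?_⟩
    rw [he₀]
    change x • b₁ + y • b₂ = b
    rw [← hx, add_assoc, ← add_smul, F.two, zero_smul, add_zero]
  let eB₀ : B ≃+ K₀ := (AddEquiv.ofBijective e₀ ⟨hinj, hsurj⟩).symm
  have heB : ∀ b, e₀ (eB₀ b) = b := fun b => (AddEquiv.ofBijective e₀ ⟨hinj, hsurj⟩).apply_symm_apply b
  have hqB : ∀ b, F.q b = α * norm (eB₀ b) := by
    intro b
    conv_lhs => rw [← heB b, he₀]
    exact hN _
  have hsmul : ∀ (r : k) b, eB₀ (r • b) = eB₀ b * algebraMap k K₀ r := by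
    intro r b
    apply hinj
    rw [heB]
    conv_lhs => rw [← heB b]
    rw [he₀, he₀, re_mul, im_mul, algebraMap_re, algebraMap_im, smul_add, smul_smul, smul_smul]
    ring_nf
  have hfB : ∀ b m, algebraMap k K₀ (α⁻¹ * F.f b m) =
      eB₀ b * star (eB₀ m) + star (eB₀ b) * eB₀ m := by
    intro b m
    rw [F.f_eq, hqB, hqB m, hqB b, map_add]
    have h1 : α⁻¹ * (α * norm (eB₀ m + eB₀ b) + α * norm (eB₀ m) + α * norm (eB₀ b)) =
        norm (eB₀ m + eB₀ b) + norm (eB₀ m) + norm (eB₀ b) := by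
      field_simp
    rw [h1, map_add, map_add, algebraMap_norm_eq_mul_star, algebraMap_norm_eq_mul_star,
      algebraMap_norm_eq_mul_star, star_add]
    calc (eB₀ m + eB₀ b) * (star (eB₀ m) + star (eB₀ b)) + eB₀ m * star (eB₀ m) + eB₀ b * star (eB₀ b)
        = eB₀ b * star (eB₀ m) + star (eB₀ b) * eB₀ m +
          (eB₀ m * star (eB₀ m) + eB₀ m * star (eB₀ m)) + (eB₀ b * star (eB₀ b) + eB₀ b * star (eB₀ b)) := by
          ring
      _ = _ := by rw [two₀, two₀, add_zero, add_zero]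
  have hfin : Finite K₀ := Finite.of_equiv _ (equivProd β (1 : k)).symm
  -- the field in `Type`
  let K := Shrink.{0} K₀
  let e : K₀ ≃+* K := (Shrink.ringEquiv.{0, u} K₀).symm
  have hfinK : Finite K := Finite.of_equiv _ e.toEquiv
  have hchar : CharP K 2 := by
    refine CharTwo.of_one_ne_zero_of_two_eq_zero one_ne_zero ?_
    rw [← one_add_one_eq_two, ← map_one e, ← map_add, two₀, map_zero]
  let σ₀ : K₀ ≃+* K₀ := starRingAut
  have hσ₀ : ∀ z, σ₀ z = star z := fun _ => rfl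
  let σ : K ≃+* K := (e.symm.trans σ₀).trans e
  have hσ : ∀ z, σ (e z) = e (star z) := by
    intro z
    change e (σ₀ (e.symm (e z))) = _
    rw [RingEquiv.symm_apply_apply, hσ₀]
  have hstar : ∀ r : k, star (algebraMap k K₀ r) = algebraMap k K₀ r := by
    intro r
    ext
    · rw [re_star, algebraMap_im, mul_zero, add_zero]
    · rw [im_star, algebraMap_im, neg_zero]
  have hfix : ∀ z : K₀, star z = z → z = algebraMap k K₀ z.re := by
    intro z hz
    have h1 := congrArg QuadraticAlgebra.re hz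
    rw [re_star, one_mul] at h1
    have h2 : z.im = 0 := by simpa using h1
    ext
    · rfl
    · rw [h2]; rfl
  have hinjK : Function.Injective fun t : k => e (algebraMap k K₀ t) :=
    e.injective.comp (algebraMap_injective (R := k) (a := β) (b := 1))
  refine ⟨K, inferInstance, hfinK, hchar, σ, ?_, ?_, ?_, ⟨?_⟩⟩
  · intro h1
    have h2 := hσ (ω : K₀)
    rw [h1] at h2
    have h3 : (ω : K₀) = star (ω : K₀) := e.injective h2
    have h4 := congrArg QuadraticAlgebra.re h3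
    rw [re_star, omega_re, omega_im, one_mul, zero_add] at h4
    exact zero_ne_one h4
  · intro x
    obtain ⟨z, rfl⟩ := e.surjective x
    rw [hσ, hσ, star_star]
  · rw [← Nat.card_congr e.toEquiv, Nat.card_congr (equivProd β (1 : k)), Nat.card_prod, pow_two]
  · exact
    { eB := eB₀.trans e.toAddEquiv
      eM := (F.eM.trans eB₀).trans e.toAddEquiv
      eX := (e.toAddEquiv.toAddMonoidHom.comp (algebraMap k K₀).toAddMonoidHom).comp F.eX.toAddMonoidHom
      eD := ((e.toAddEquiv.toAddMonoidHom.comp (algebraMap k K₀).toAddMonoidHom).comp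
        (AddMonoidHom.mulLeft α⁻¹)).comp F.eD.toAddMonoidHom
      eX_inj := hinjK.comp F.eX.injective
      eD_inj := by
        refine (hinjK.comp ?_).comp F.eD.injective
        exact mul_right_injective₀ (inv_ne_zero hα0)
      eX_fix := fun x => by
        change σ (e (algebraMap k K₀ (F.eX x))) = e (algebraMap k K₀ (F.eX x))
        rw [hσ, hstar]
      eD_fix := fun d => by
        change σ (e (algebraMap k K₀ (α⁻¹ * F.eD d))) = e (algebraMap k K₀ (α⁻¹ * F.eD d))
        rw [hσ, hstar]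
      eX_surj := fun t ht => by
        obtain ⟨z, rfl⟩ := e.surjective t
        rw [hσ] at ht
        refine ⟨F.eX.symm z.re, ?_⟩
        change e (algebraMap k K₀ (F.eX (F.eX.symm z.re))) = e z
        rw [AddEquiv.apply_symm_apply, ← hfix z (e.injective ht)]
      eD_surj := fun t ht => by
        obtain ⟨z, rfl⟩ := e.surjective t
        rw [hσ] at ht
        refine ⟨F.eD.symm (α * z.re), ?_⟩
        change e (algebraMap k K₀ (α⁻¹ * F.eD (F.eD.symm (α * z.re)))) = e z
        rw [AddEquiv.apply_symm_apply, ← mul_assoc, inv_mul_cancel₀ hα0, one_mul, ← hfix z (e.injective ht)]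
      hτ := fun b x => by
        change e (eB₀ (F.eM (S.τ b x))) = e (eB₀ b) * e (algebraMap k K₀ (F.eX x))
        rw [F.hτ, hsmul, map_mul]
      hl := fun b m => by
        change e (algebraMap k K₀ (α⁻¹ * F.eD (S.l b m))) =
          e (eB₀ b) * σ (e (eB₀ (F.eM m))) + σ (e (eB₀ b)) * e (eB₀ (F.eM m))
        rw [F.hl, hfB, map_add, map_mul, map_mul, hσ, hσ]
      hφ := fun b x => by
        change e (algebraMap k K₀ (α⁻¹ * F.eD (S.φ b x))) =
          e (eB₀ b) * σ (e (eB₀ b)) * e (algebraMap k K₀ (F.eX x))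
        rw [← F.ph_eX, F.lin, hqB, hσ, ← map_mul e, ← map_mul e, ← algebraMap_norm_eq_mul_star, ← map_mul]
        congr 2
        field_simp }

end Cfsg.Agent.Omega.NO1.HE
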