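import Cfsg.Agent.Omega.NO1.HE.SysOf
import Cfsg.Agent.Omega.NO1.HE.Comm
import Cfsg.Agent.Omega.NO1.HE.Norm

/-!
# THE END of (BT): (+) for one frame ⟹ `MinusQ` (N1, text #17521, helper438)

`Fra T Mx E F B` : a frame `B ≤ T` of `V` (TEXT B4) with (+): if a Sylow 2-subgroup `T'` of `Y` fixes a nonzero
vector of `E`, then `T' ≤ Mx`.  `Rep.ty` : then `Ty` (type `MinusQ`) if `|V / E| ≥ 4`.
-/

set_option autoImplicit false
set_option linter.unusedSectionVars false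

namespace Cfsg.Agent.Omega.NO1.HE

open Subgroup
open Cfsg Cfsg.Agent.ZN Cfsg.Agent.Omega.MinPar Cfsg.Agent.Omega.Frame
open scoped Pointwise

universe u

section pts

variable {Y : Type u} [Group Y] [Finite Y]

theorem normalizer_eq_of {T : Sylow 2 Y} {Mx : Subgroup Y} (core : ∀ N : Subgroup Y, N.Normal → IsPGroup 2 N → N = ⊥)
    (TM : (T : Subgroup Y) ≤ Mx) (Mne : Mx ≠ ⊤) (max : ∀ K : Subgroup Y, (T : Subgroup Y) ≤ K → K ≠ ⊤ → K ≤ Mx)
    (hT : (T : Subgroup Y) ≠ ⊥) {x : Y} (hx : MulAut.conj x • Mx = Mx) : x ∈ Mx := by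
  have : Fact (Nat.Prime 2) := ⟨Nat.prime_two⟩
  have hNT : normalizer ((T : Subgroup Y) : Set Y) ≤ Mx := by
    refine max _ le_normalizer fun h => hT (core _ (normalizer_eq_top_iff.1 h) T.isPGroup')
  have hN : normalizer (Mx : Set Y) ≤ Mx := by
    refine max _ (TM.trans le_normalizer) fun h => Mne ?_
    have hn : Mx.Normal := normalizer_eq_top_iff.1 h
    have h1 := Sylow.normalizer_sup_eq_top (T.subtype TM)
    have h2 : ((T.subtype TM : Sylow 2 Mx) : Subgroup Mx).map Mx.subtype = (T : Subgroup Y) := by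
      rw [Sylow.coe_subtype, Subgroup.map_subgroupOf_eq_of_le TM]
    rw [h2] at h1
    rw [← top_le_iff, ← h1]
    exact sup_le hNT le_rfl
  apply hN
  rw [Subgroup.mem_normalizer_iff]
  intro y
  constructor
  · intro hy
    rw [← hx, mem_conj]
    rwa [show x⁻¹ * (x * y * x⁻¹) * x = y by group]
  · intro hy
    rw [← hx, mem_conj, show x⁻¹ * (x * y * x⁻¹) * x = y by group] at hy
    exact hy

theorem pts_of {T : Sylow 2 Y} {Mx : Subgroup Y} (core : ∀ N : Subgroup Y, N.Normal → IsPGroup 2 N → N = ⊥)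
    (TM : (T : Subgroup Y) ≤ Mx) (Mne : Mx ≠ ⊤) (max : ∀ K : Subgroup Y, (T : Subgroup Y) ≤ K → K ≠ ⊤ → K ≤ Mx)
    (hT : (T : Subgroup Y) ≠ ⊥) : Pts Y (Y ⧸ Mx) := by
  have : Fact (Nat.Prime 2) := ⟨Nat.prime_two⟩
  have hfix : ∀ x y : Y, y • (x : Y ⧸ Mx) = (x : Y ⧸ Mx) ↔ x⁻¹ * y * x ∈ Mx := by
    intro x y
    rw [MulAction.Quotient.smul_coe, smul_eq_mul, eq_comm, QuotientGroup.eq, mul_assoc]
  -- `T` fixes only `Mx`
  have key : ∀ x : Y, At T (x : Y ⧸ Mx) → (x : Y ⧸ Mx) = ((1 : Y) : Y ⧸ Mx) := by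
    intro x hx
    have h1 : (T : Subgroup Y) ≤ MulAut.conj x • Mx := fun t ht => by
      rw [mem_conj]; exact (hfix x t).1 (hx t ht)
    have hc : Nat.card (MulAut.conj x • Mx : Subgroup Y) = Nat.card Mx :=
      Nat.card_congr (Subgroup.equivSMul (MulAut.conj x) Mx).symm.toEquiv
    have h2 : (MulAut.conj x • Mx : Subgroup Y) ≠ ⊤ := by
      intro h
      apply Mne
      apply Subgroup.eq_top_of_card_eq
      rw [← hc, h, Subgroup.card_top]
    have h3 := max _ h1 h2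
    have h4 : MulAut.conj x • Mx = Mx := Subgroup.eq_of_le_of_card_ge h3 hc.ge
    rw [eq_comm, QuotientGroup.eq, inv_one, one_mul]
    exact normalizer_eq_of core TM Mne max hT h4
  have at1 : At T ((1 : Y) : Y ⧸ Mx) := fun t ht => by
    rw [hfix, inv_one, one_mul, mul_one]
    exact TM ht
  refine ⟨?_, ?_, ?_, ?_, ?_⟩
  · intro p q
    exact MulAction.exists_smul_eq Y p q
  · intro T' p q hp hq
    obtain ⟨g, rfl⟩ := MulAction.exists_smul_eq Y T T'
    obtain ⟨x, rfl⟩ := QuotientGroup.mk_surjective p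
    obtain ⟨y, rfl⟩ := QuotientGroup.mk_surjective q
    have e : ∀ z : Y, At (g • T) (z : Y ⧸ Mx) → (z : Y ⧸ Mx) = g • ((1 : Y) : Y ⧸ Mx) := by
      intro z hz
      have h1 := hz.smul g⁻¹
      rw [inv_smul_smul] at h1
      have h2 := key (g⁻¹ * z) h1
      rw [← h2]
      change (z : Y ⧸ Mx) = ((g * (g⁻¹ * z) : Y) : Y ⧸ Mx)
      rw [mul_inv_cancel_left]
    exact (e x hp).trans (e y hq).symm
  · intro T'
    obtain ⟨g, rfl⟩ := MulAction.exists_smul_eq Y T T'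
    exact ⟨_, at1.smul g⟩
  · intro p
    obtain ⟨y, hy⟩ : ∃ y, y ∉ Mx := by
      by_contra hcon
      push Not at hcon
      exact Mne ((Subgroup.eq_top_iff' _).2 hcon)
    obtain ⟨x, rfl⟩ := QuotientGroup.mk_surjective p
    refine ⟨((x * y : Y) : Y ⧸ Mx), fun h => hy ?_⟩
    rw [eq_comm, QuotientGroup.eq, inv_mul_cancel_left] at h
    exact h
  · intro R hR hfix'
    by_contra hne
    have hRK : R ≤ Mx.normalCore := by
      intro r hr
      intro g
      have h1 := hfix' r hr ((g⁻¹ : Y) : Y ⧸ Mx)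
      rw [hfix, inv_inv] at h1
      exact h1
    set K := Mx.normalCore with hK
    obtain ⟨Q, hQ⟩ := (hR.comap_of_injective _ K.subtype_injective : IsPGroup 2 (R.subgroupOf K)).exists_le_sylow
    have hF := Sylow.normalizer_sup_eq_top Q
    set Q' := (Q : Subgroup K).map K.subtype with hQ'
    have hRQ : R ≤ Q' := fun r hr => ⟨⟨r, hRK hr⟩, hQ (Subgroup.mem_subgroupOf.2 hr), rfl⟩
    have hQp : IsPGroup 2 Q' := Q.isPGroup'.map _
    have hQne : Q' ≠ ⊥ := fun h => hne (le_bot_iff.1 (h ▸ hRQ))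
    obtain ⟨T', hT'⟩ := hQp.exists_le_sylow
    obtain ⟨g, rfl⟩ := MulAction.exists_smul_eq Y T T'
    -- `Q' = T' ∩ K`
    have hTK : ((g • T : Sylow 2 Y) : Subgroup Y) ⊓ K ≤ Q' := by
      have h1 : IsPGroup 2 ((((g • T : Sylow 2 Y) : Subgroup Y) ⊓ K).subgroupOf K) :=
        ((g • T).isPGroup'.to_le inf_le_left).comap_of_injective _ K.subtype_injective
      have h2 : (Q : Subgroup K) ≤ (((g • T : Sylow 2 Y) : Subgroup Y) ⊓ K).subgroupOf K := by
        intro x hx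
        rw [Subgroup.mem_subgroupOf]
        exact ⟨hT' ⟨x, hx, rfl⟩, x.2⟩
      have h3 := Q.is_maximal' h1 h2
      rintro y ⟨hy1, hy2⟩
      refine ⟨⟨y, hy2⟩, ?_, rfl⟩
      rw [SetLike.mem_coe, ← h3, Subgroup.mem_subgroupOf]
      exact ⟨hy1, hy2⟩
    have hnorm : ((g • T : Sylow 2 Y) : Subgroup Y) ≤ normalizer (Q' : Set Y) := by
      intro t ht
      have key' : ∀ s ∈ ((g • T : Sylow 2 Y) : Subgroup Y), ∀ y ∈ Q', s * y * s⁻¹ ∈ Q' := by
        intro s hs y hy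
        refine hTK ⟨Subgroup.mul_mem _ (Subgroup.mul_mem _ hs (hT' hy)) (Subgroup.inv_mem _ hs), ?_⟩
        have hyK : y ∈ K := by
          obtain ⟨x, -, rfl⟩ := hy
          exact x.2
        exact (Subgroup.normalCore_normal Mx).conj_mem y hyK s
      rw [Subgroup.mem_normalizer_iff]
      intro y
      refine ⟨key' t ht y, fun h => ?_⟩
      have := key' t⁻¹ (inv_mem ht) _ h
      rwa [show t⁻¹ * (t * y * t⁻¹) * t⁻¹⁻¹ = y by group] at this
    have hNne : normalizer (Q' : Set Y) ≠ ⊤ := fun h => hQne (core _ (normalizer_eq_top_iff.1 h) hQp)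
    have hconj : ∀ H : Subgroup Y, ((g • T : Sylow 2 Y) : Subgroup Y) ≤ H → H ≠ ⊤ → H ≤ MulAut.conj g • Mx := by
      intro H hH hH1
      have h1 : (T : Subgroup Y) ≤ MulAut.conj g⁻¹ • H := by
        intro t ht
        rw [mem_conj, inv_inv]
        apply hH
        rw [Sylow.coe_subgroup_smul, mem_conj]
        rwa [show g⁻¹ * (g * t * g⁻¹) * g = t by group]
      have h2 : (MulAut.conj g⁻¹ • H : Subgroup Y) ≠ ⊤ := by
        intro h
        apply hH1
        apply Subgroup.eq_top_of_card_eq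
        rw [Nat.card_congr (Subgroup.equivSMul (MulAut.conj g⁻¹) H).toEquiv, h, Subgroup.card_top]
      have h3 := max _ h1 h2
      intro y hy
      rw [mem_conj]
      apply h3
      rw [mem_conj, inv_inv]
      rwa [show g * (g⁻¹ * y * g) * g⁻¹ = y by group]
    have h1 := hconj _ hnorm hNne
    have h2 : K ≤ MulAut.conj g • Mx := by
      intro y hy
      rw [mem_conj]
      have h3 := (Subgroup.normalCore_normal Mx).conj_mem y hy g⁻¹
      rw [inv_inv] at h3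
      exact Subgroup.normalCore_le Mx h3
    have h3 : (MulAut.conj g • Mx : Subgroup Y) = ⊤ := by
      rw [← top_le_iff, ← hF]
      exact sup_le h1 h2
    apply Mne
    apply Subgroup.eq_top_of_card_eq
    rw [Nat.card_congr (Subgroup.equivSMul (MulAut.conj g) Mx).toEquiv, h3, Subgroup.card_top]

end pts

/-- A frame `B ≤ T` (TEXT B4) with (+). -/
structure Fra {Y V : Type u} [Group Y] [AddCommGroup V] [DistribMulAction Y V] (T : Sylow 2 Y)
    (Mx : Subgroup Y) (E F : AddSubgroup V) (B : Subgroup Y) : Prop where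
  BT : B ≤ T
  comm : ∀ b ∈ B, ∀ c ∈ B, b * c = c * b
  sq : ∀ b ∈ B, b * b = 1
  FE : F ≤ E
  VB : ∀ b ∈ B, ∀ v : V, b • v + v ∈ E
  EB : ∀ b ∈ B, ∀ e ∈ E, b • e + e ∈ F
  FB : ∀ b ∈ B, ∀ f ∈ F, b • f = f
  CB : ∀ v : V, (∀ b ∈ B, b • v = v) → v ∈ F
  inj : ∀ w, w ∉ E → ∀ b ∈ B, b • w + w ∈ F → b = 1
  surj : ∀ w, w ∉ E → ∀ e ∈ E, ∃ b ∈ B, b • w + w + e ∈ F
  ne : ∃ v, v ∉ E
  ne' : ∃ e ∈ E, e ∉ F
  plus : ∀ T' : Sylow 2 Y, (∃ v ∈ E, v ≠ 0 ∧ ∀ t ∈ T', t • v = v) → (T' : Subgroup Y) ≤ Mx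

variable {G : Type u} [Group G] {S₀ P : Subgroup G} {Y V : Type u} [Group Y] [Finite Y] [AddCommGroup V]
  [Finite V] [DistribMulAction Y V] {T : Sylow 2 Y} {Mx : Subgroup Y}

/-- **THE END of (BT)**: (+) for one frame implies type `MinusQ`. -/
theorem minusQ (R : Rep S₀ P (zl S₀ P) Y V T Mx) {E F : AddSubgroup V} {B : Subgroup Y}
    (h : Fra T Mx E F B) (h4 : 4 ≤ E.index) : Ty S₀ P := by
  have hT : (T : Subgroup Y) ≠ ⊥ := by
    intro h1
    obtain ⟨e, he, hf⟩ := h.ne'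
    refine hf (h.CB e fun b hb => ?_)
    have h3 : b ∈ (T : Subgroup Y) := h.BT hb
    rw [h1, Subgroup.mem_bot] at h3
    rw [h3, one_smul]
  have Pt := pts_of R.core R.TM R.Mne R.max hT
  have at1 : ∀ T' : Sylow 2 Y, (T' : Subgroup Y) ≤ Mx → At T' ((1 : Y) : Y ⧸ Mx) := fun T' hT' t ht => by
    rw [MulAction.Quotient.smul_coe, smul_eq_mul, mul_one, eq_comm, QuotientGroup.eq, inv_one, one_mul]
    exact hT' ht
  have hfr : Fr E.index T ((1 : Y) : Y ⧸ Mx) E F B :=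
    { at' := at1 T R.TM
      ind := rfl
      BT := h.BT
      comm := h.comm
      sq := h.sq
      FE := h.FE
      VB := h.VB
      EB := h.EB
      FB := h.FB
      CB := h.CB
      inj := h.inj
      surj := h.surj
      ne := h.ne
      ne' := h.ne'
      plus := fun T' q hq hv => Pt.one T' q _ hq (at1 T' (h.plus T' hv)) }
  obtain ⟨Ge⟩ := exists_geo Pt R.two R.faith hfr
  obtain ⟨q, hq⟩ := Pt.ne ((1 : Y) : Y ⧸ Mx)
  refine (Ge.act hq.symm).ty Comm.commStmt normStmt ?_ R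
  rw [Ge.card_F]
  exact h4

end Cfsg.Agent.Omega.NO1.HE
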