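import Cfsg.Agent.Omega.NO1.HE.Sys
import Cfsg.Agent.Omega.NO1.Types
import Cfsg.Agent.Omega.NO1.Rep

/-!
# The coordinates give the literal type `MinusQ` (N1, text #17521 (helper438), end)

* `Act S Y V` : `Y` acts on `V = X ⊕ M ⊕ D`, the elements `up b` (`b ∈ B`) of the root group `B_∞` act by
  `(x, m, d) ↦ (x, m + τ b x, d + l b m + φ b x)`, the elements `lo b` (`b ≠ 0`) of `B_0` by
  `(x, m, d) ↦ (x + φ_b⁻¹ (l b m) + φ_b⁻¹ d, m + τ b (φ_b⁻¹ d), d)`; they generate a normal subgroup;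
* `Act.exists_herm` : with `Coo S K σ`, `V` is the space of hermitian `2 × 2`-matrices over `K`;
* `Herm.minusQ` : the literal type `MinusQ`;
* `Act.ty` : `Ty S P`.
-/

set_option autoImplicit false

namespace Cfsg.Agent.Omega.NO1.HE

open Matrix Cfsg.Agent.ZN Cfsg.Agent.Omega.MinPar Cfsg.Agent.Omega.Frame

universe u

/-! ### generation of `SL₂` -/

section gen

variable {F : Type*} [Field F]

/-- upper unitriangular -/
def up (t : F) : SpecialLinearGroup (Fin 2) F := ⟨!![1, t; 0, 1], by simp⟩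

/-- lower unitriangular -/
def lo (t : F) : SpecialLinearGroup (Fin 2) F := ⟨!![1, 0; t, 1], by simp⟩

theorem lo_zero : (lo 0 : SpecialLinearGroup (Fin 2) F) = 1 := by
  apply Subtype.ext
  change !![(1 : F), 0; 0, 1] = 1
  exact Matrix.one_fin_two.symm

theorem sl_induction {Q : SpecialLinearGroup (Fin 2) F → Prop} (hu : ∀ a, Q (up a)) (hl : ∀ a, Q (lo a))
    (hmul : ∀ A B, Q A → Q B → Q (A * B)) (A : SpecialLinearGroup (Fin 2) F) : Q A := by
  have key : ∀ g : SpecialLinearGroup (Fin 2) F, g.1 1 0 ≠ 0 → Q g := by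
    intro g hc
    have hdet : g.1 0 0 * g.1 1 1 - g.1 0 1 * g.1 1 0 = 1 := by
      rw [← Matrix.det_fin_two]; exact g.2
    have : g = up ((g.1 0 0 - 1) / g.1 1 0) * lo (g.1 1 0) * up ((g.1 1 1 - 1) / g.1 1 0) := by
      apply Subtype.ext
      show g.1 = (up ((g.1 0 0 - 1) / g.1 1 0)).1 * (lo (g.1 1 0)).1 * (up ((g.1 1 1 - 1) / g.1 1 0)).1
      ext i j
      fin_cases i <;> fin_cases j
      · simp [up, lo, Matrix.mul_apply, Fin.sum_univ_two, hc]
      · simp [up, lo, Matrix.mul_apply, Fin.sum_univ_two]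
        field_simp
        linear_combination -hdet
      · simp [up, lo, Matrix.mul_apply, Fin.sum_univ_two]
      · simp [up, lo, Matrix.mul_apply, Fin.sum_univ_two]
        field_simp
        ring
    rw [this]
    exact hmul _ _ (hmul _ _ (hu _) (hl _)) (hu _)
  by_cases hc : A.1 1 0 = 0
  · have hdet : A.1 0 0 * A.1 1 1 - A.1 0 1 * A.1 1 0 = 1 := by
      rw [← Matrix.det_fin_two]; exact A.2
    have h0 : A.1 0 0 ≠ 0 := by
      intro h0
      rw [h0, hc] at hdet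
      simp at hdet
    have h1 : A = lo (-1) * (lo 1 * A) := by
      rw [← mul_assoc]
      have e : (lo (-1) * lo 1 : SpecialLinearGroup (Fin 2) F) = 1 := by
        apply Subtype.ext
        show (lo (-1) : SpecialLinearGroup (Fin 2) F).1 * (lo 1 : SpecialLinearGroup (Fin 2) F).1 = 1
        ext i j
        fin_cases i <;> fin_cases j <;> simp [lo, Matrix.mul_apply, Fin.sum_univ_two]
      rw [e, one_mul]
    rw [h1]
    refine hmul _ _ (hl _) (key _ ?_)
    show ((lo 1 : SpecialLinearGroup (Fin 2) F).1 * A.1) 1 0 ≠ 0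
    simp [lo, Matrix.mul_apply, Fin.sum_univ_two, hc, h0]
  · exact key A hc

end gen

/-! ### actions on hermitian matrices -/

/-- `y` acts as `X ↦ A X A^*`. -/
def Acts {Y V K : Type*} [Field K] [SMul Y V] (σ : K ≃+* K) (e : V → Matrix (Fin 2) (Fin 2) K) (y : Y)
    (A : Matrix (Fin 2) (Fin 2) K) : Prop :=
  ∀ v : V, e (y • v) = A * e v * (A.map σ).transpose

/-- `V` is the space of hermitian matrices, with a normal subgroup of `Y` inducing `SL₂(K)`. -/
structure Herm (K : Type) [Field K] (σ : K ≃+* K) (Y V : Type u) [Group Y] [AddCommGroup V]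
    [DistribMulAction Y V] where
  e : V → Matrix (Fin 2) (Fin 2) K
  add : ∀ v w, e (v + w) = e v + e w
  herm : ∀ v, ((e v).map σ).transpose = e v
  surj : ∀ X : Matrix (Fin 2) (Fin 2) K, (X.map σ).transpose = X → ∃ v, e v = X
  inj : ∀ v, e v = 0 → v = 0
  L : Subgroup Y
  normal : L.Normal
  up : ∀ a : K, ∃ y ∈ L, Acts σ e y (HE.up a).1
  lo : ∀ a : K, ∃ y ∈ L, Acts σ e y (HE.lo a).1
  L_acts : ∀ y ∈ L, ∃ A : SpecialLinearGroup (Fin 2) K, Acts σ e y A.1

section acts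

variable {Y V K : Type*} [Field K] [Group Y] [AddCommGroup V] [DistribMulAction Y V] {σ : K ≃+* K}
  {e : V → Matrix (Fin 2) (Fin 2) K}

theorem Acts.mul {y z : Y} {A B : Matrix (Fin 2) (Fin 2) K} (hy : Acts σ e y A) (hz : Acts σ e z B) :
    Acts σ e (y * z) (A * B) := by
  intro v
  rw [mul_smul, hy, hz, Matrix.map_mul, Matrix.transpose_mul]
  simp only [Matrix.mul_assoc]

theorem Acts.one : Acts σ e (1 : Y) (1 : Matrix (Fin 2) (Fin 2) K) := by
  intro v
  rw [one_smul, Matrix.one_mul, Matrix.map_one σ (map_zero σ) (map_one σ), Matrix.transpose_one,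
    Matrix.mul_one]

theorem Acts.inv {y : Y} {A : SpecialLinearGroup (Fin 2) K} (hy : Acts σ e y A.1) :
    Acts σ e y⁻¹ (A⁻¹ : SpecialLinearGroup (Fin 2) K).1 := by
  intro v
  have h1 := hy (y⁻¹ • v)
  rw [smul_inv_smul] at h1
  have h2 : (A⁻¹ : SpecialLinearGroup (Fin 2) K).1 * A.1 = 1 := by
    have := congrArg Subtype.val (inv_mul_cancel A)
    exact this
  have h3 : (A.1.map σ).transpose * ((A⁻¹ : SpecialLinearGroup (Fin 2) K).1.map σ).transpose = 1 := by
    rw [← Matrix.transpose_mul, ← Matrix.map_mul, h2, Matrix.map_one σ (map_zero σ) (map_one σ),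
      Matrix.transpose_one]
  rw [h1]
  calc e (y⁻¹ • v) = 1 * e (y⁻¹ • v) * 1 := by rw [Matrix.one_mul, Matrix.mul_one]
    _ = ((A⁻¹ : SpecialLinearGroup (Fin 2) K).1 * A.1) * e (y⁻¹ • v) *
        ((A.1.map σ).transpose * ((A⁻¹ : SpecialLinearGroup (Fin 2) K).1.map σ).transpose) := by
        rw [h2, h3]
    _ = _ := by simp only [Matrix.mul_assoc]

end acts

namespace Herm

variable {K : Type} [Field K] {σ : K ≃+* K} {Y V : Type u} [Group Y] [AddCommGroup V]
  [DistribMulAction Y V] (H : Herm K σ Y V)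
include H

theorem e_inj {v w : V} (h : H.e v = H.e w) : v = w := by
  have h1 : H.e (v - w) + H.e w = H.e w := by rw [← H.add, sub_add_cancel, h]
  have h2 : H.e (v - w) = 0 := by
    have := congrArg (fun X => X - H.e w) h1
    simpa using this
  exact sub_eq_zero.1 (H.inj _ h2)

theorem lift (A : SpecialLinearGroup (Fin 2) K) : ∃ y ∈ H.L, Acts σ H.e y A.1 := by
  refine sl_induction (Q := fun A => ∃ y ∈ H.L, Acts σ H.e y A.1) H.up H.lo ?_ A
  rintro A B ⟨y, hy, hA⟩ ⟨z, hz, hB⟩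
  exact ⟨y * z, mul_mem hy hz, hA.mul hB⟩

/-- **The literal type.** -/
theorem minusQ {G : Type u} [Group G] {S P W : Subgroup G} {T : Sylow 2 Y} {Mx : Subgroup Y}
    (R : Rep S P W Y V T Mx) : Nonempty (MinusQ K σ P W) := by
  classical
  let f : G → V := fun g => if h : ∃ m, R.el m = g then h.choose else 0
  have hf : ∀ m, f (R.el m) = m := by
    intro m
    have h1 : ∃ m', R.el m' = R.el m := ⟨m, rfl⟩
    have h2 : f (R.el m) = h1.choose := dif_pos h1
    rw [h2]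
    exact R.inj h1.choose_spec
  have hact : ∀ (p : P) (m : V), f (p * R.el m * (p : G)⁻¹) = R.ac p • m := by
    intro p m
    rw [← R.smul, hf]
  refine ⟨
    { e := fun g => H.e (f g)
      herm := fun v _ => H.herm _
      mul := ?_
      surj := ?_
      ker := ?_
      lift := ?_
      norm := ?_ }⟩
  · intro v hv w hw
    obtain ⟨a, rfl⟩ := R.surj v hv
    obtain ⟨b, rfl⟩ := R.surj w hw
    rw [← R.add, hf, hf, hf, H.add]
  · intro X hX
    obtain ⟨m, hm⟩ := H.surj X hX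
    exact ⟨R.el m, R.mem m, by rw [hf, hm]⟩
  · intro v hv h0
    obtain ⟨a, rfl⟩ := R.surj v hv
    rw [hf] at h0
    rw [H.inj a h0]
    have h1 := R.add 0 0
    rw [add_zero] at h1
    exact left_eq_mul.1 h1
  · intro A
    obtain ⟨y, -, hA⟩ := H.lift A
    obtain ⟨p, rfl⟩ := R.acs y
    refine ⟨p, p.2, fun v hv => ?_⟩
    obtain ⟨a, rfl⟩ := R.surj v hv
    rw [hact, hf]
    exact hA a
  · intro g hg h hh A hA
    have h1 : Acts σ H.e (R.ac ⟨h, hh⟩) A.1 := by
      intro m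
      have := hA (R.el m) (R.mem m)
      rw [hf, hact ⟨h, hh⟩] at this
      exact this
    obtain ⟨y, hy, hyA⟩ := H.lift A
    have h2 : R.ac ⟨h, hh⟩ = y := by
      have h3 : y⁻¹ * R.ac ⟨h, hh⟩ = 1 := by
        refine R.faith _ fun m => ?_
        rw [mul_smul, inv_smul_eq_iff]
        apply H.e_inj
        rw [h1, hyA]
      rw [inv_mul_eq_one] at h3
      exact h3.symm
    have h3 : R.ac ⟨g, hg⟩ * R.ac ⟨h, hh⟩ * (R.ac ⟨g, hg⟩)⁻¹ ∈ H.L := by
      rw [h2]
      exact H.normal.conj_mem y hy _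
    obtain ⟨B, hB⟩ := H.L_acts _ h3
    refine ⟨B, fun v hv => ?_⟩
    obtain ⟨a, rfl⟩ := R.surj v hv
    have h4 := hact (⟨g, hg⟩ * ⟨h, hh⟩ * ⟨g, hg⟩⁻¹) a
    have h5 : f (g * h * g⁻¹ * R.el a * (g * h * g⁻¹)⁻¹) =
        (R.ac ⟨g, hg⟩ * R.ac ⟨h, hh⟩ * (R.ac ⟨g, hg⟩)⁻¹) • a := by
      rw [← map_mul, ← map_inv, ← map_mul]
      exact h4
    change H.e (f (g * h * g⁻¹ * R.el a * (g * h * g⁻¹)⁻¹)) = B.1 * H.e (f (R.el a)) * _
    rw [h5, hf]
    exact hB a

end Herm

/-! ### coordinates -/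

section

variable {B X M D : Type u} [AddCommGroup B] [AddCommGroup X] [AddCommGroup M] [AddCommGroup D]

/-- `Y` acts on `V = X ⊕ M ⊕ D`; `up b` and `lo b` as in the text. -/
structure Act (S : Sys B X M D) (Y V : Type u) [Group Y] [AddCommGroup V] [DistribMulAction Y V] where
  dec : V ≃+ X × M × D
  L : Subgroup Y
  normal : L.Normal
  up : B → Y
  lo : B → Y
  gen : L = Subgroup.closure (Set.range up ∪ {y | ∃ b : B, b ≠ 0 ∧ y = lo b})
  up_act : ∀ b v, dec (up b • v) =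
    ((dec v).1, (dec v).2.1 + S.τ b (dec v).1, (dec v).2.2 + S.l b (dec v).2.1 + S.φ b (dec v).1)
  lo_act : ∀ b, b ≠ 0 → ∀ v x1 x2, S.φ b x1 = (dec v).2.2 → S.φ b x2 = S.l b (dec v).2.1 →
    dec (lo b • v) = ((dec v).1 + x2 + x1, (dec v).2.1 + S.τ b x1, (dec v).2.2)

variable {S : Sys B X M D} {Y V : Type u} [Group Y] [AddCommGroup V] [DistribMulAction Y V]
  {K : Type} [Field K] {σ : K ≃+* K}

theorem Act.exists_herm (A : Act S Y V) (hσ : ∀ x, σ (σ x) = x) (C : Coo S K σ) :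
    Nonempty (Herm K σ Y V) := by
  let e : V → Matrix (Fin 2) (Fin 2) K := fun v =>
    !![C.eD (A.dec v).2.2, C.eM (A.dec v).2.1; σ (C.eM (A.dec v).2.1), C.eX (A.dec v).1]
  have hup : ∀ b, Acts σ e (A.up b) (HE.up (C.eB b)).1 := by
    intro b v
    have h1 : e (A.up b • v) = !![C.eD (A.dec v).2.2 + (C.eB b * σ (C.eM (A.dec v).2.1) +
        σ (C.eB b) * C.eM (A.dec v).2.1) + C.eB b * σ (C.eB b) * C.eX (A.dec v).1,
        C.eM (A.dec v).2.1 + C.eB b * C.eX (A.dec v).1;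
        σ (C.eM (A.dec v).2.1 + C.eB b * C.eX (A.dec v).1), C.eX (A.dec v).1] := by
      change !![C.eD (A.dec (A.up b • v)).2.2, C.eM (A.dec (A.up b • v)).2.1;
        σ (C.eM (A.dec (A.up b • v)).2.1), C.eX (A.dec (A.up b • v)).1] = _
      rw [A.up_act]
      simp only [map_add, C.hτ, C.hl, C.hφ]
    rw [h1]
    ext i j
    fin_cases i <;> fin_cases j
    all_goals
      simp [e, HE.up, Matrix.mul_apply, Fin.sum_univ_two, C.eX_fix]
      try ring
  have hlo : ∀ b, b ≠ 0 → Acts σ e (A.lo b) (HE.lo (C.eB b)⁻¹).1 := by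
    intro b hb v
    obtain ⟨x1, hx1⟩ := S.φ_surj b hb (A.dec v).2.2
    obtain ⟨x2, hx2⟩ := S.φ_surj b hb (S.l b (A.dec v).2.1)
    have hβ : C.eB b ≠ 0 := by
      intro h0
      exact hb (C.eB.injective (by rw [h0, map_zero]))
    have hβ' : σ (C.eB b) ≠ 0 := by
      intro h0
      exact hβ (σ.injective (by rw [h0, map_zero]))
    have k1 := C.hφ b x1
    rw [hx1] at k1
    have k2 := C.hφ b x2
    rw [hx2, C.hl] at k2
    have e1 : C.eX x1 = (C.eB b)⁻¹ * (σ (C.eB b))⁻¹ * C.eD (A.dec v).2.2 := by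
      rw [k1]; field_simp
    have e2 : C.eX x2 = (C.eB b)⁻¹ * C.eM (A.dec v).2.1 + (σ (C.eB b))⁻¹ * σ (C.eM (A.dec v).2.1) := by
      have : C.eX x2 = (C.eB b)⁻¹ * (σ (C.eB b))⁻¹ * (C.eB b * σ (C.eB b) * C.eX x2) := by
        field_simp
      rw [this, ← k2]
      field_simp
      ring
    have h1 : e (A.lo b • v) = !![C.eD (A.dec v).2.2,
        C.eM (A.dec v).2.1 + C.eB b * C.eX x1;
        σ (C.eM (A.dec v).2.1 + C.eB b * C.eX x1), C.eX (A.dec v).1 + C.eX x2 + C.eX x1] := by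
      change !![C.eD (A.dec (A.lo b • v)).2.2, C.eM (A.dec (A.lo b • v)).2.1;
        σ (C.eM (A.dec (A.lo b • v)).2.1), C.eX (A.dec (A.lo b • v)).1] = _
      rw [A.lo_act b hb v x1 x2 hx1 hx2]
      simp only [map_add, C.hτ]
    rw [h1, e1, e2]
    ext i j
    fin_cases i <;> fin_cases j
    all_goals
      simp [e, HE.lo, Matrix.mul_apply, Fin.sum_univ_two, C.eD_fix, hσ]
      try field_simp
      try ring
  have hL : ∀ y ∈ A.L, ∃ T : SpecialLinearGroup (Fin 2) K, Acts σ e y T.1 := by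
    intro y hy
    rw [A.gen] at hy
    refine Subgroup.closure_induction (p := fun y _ => ∃ T : SpecialLinearGroup (Fin 2) K, Acts σ e y T.1)
      ?_ ?_ ?_ ?_ hy
    · rintro y (⟨b, rfl⟩ | ⟨b, hb, rfl⟩)
      · exact ⟨_, hup b⟩
      · exact ⟨_, hlo b hb⟩
    · exact ⟨1, Acts.one⟩
    · rintro y z - - ⟨T, hT⟩ ⟨T', hT'⟩
      exact ⟨T * T', hT.mul hT'⟩
    · rintro y - ⟨T, hT⟩
      exact ⟨T⁻¹, hT.inv⟩
  refine ⟨
    { e := e
      add := ?_
      herm := ?_
      surj := ?_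
      inj := ?_
      L := A.L
      normal := A.normal
      up := ?_
      lo := ?_
      L_acts := hL }⟩
  · intro v w
    ext i j
    fin_cases i <;> fin_cases j <;> simp [e]
  · intro v
    ext i j
    fin_cases i <;> fin_cases j <;> simp [e, C.eX_fix, C.eD_fix, hσ]
  · intro Z hZ
    have h00 : σ (Z 0 0) = Z 0 0 := congrFun (congrFun hZ 0) 0
    have h11 : σ (Z 1 1) = Z 1 1 := congrFun (congrFun hZ 1) 1
    have h10 : σ (Z 0 1) = Z 1 0 := congrFun (congrFun hZ 1) 0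
    obtain ⟨x, hx⟩ := C.eX_surj _ h11
    obtain ⟨d, hd⟩ := C.eD_surj _ h00
    refine ⟨A.dec.symm (x, C.eM.symm (Z 0 1), d), ?_⟩
    ext i j
    fin_cases i <;> fin_cases j <;> simp [e, hx, hd, h10]
  · intro v hv
    have h00 : C.eD (A.dec v).2.2 = 0 := congrFun (congrFun hv 0) 0
    have h01 : C.eM (A.dec v).2.1 = 0 := congrFun (congrFun hv 0) 1
    have h11 : C.eX (A.dec v).1 = 0 := congrFun (congrFun hv 1) 1
    have k1 : (A.dec v).2.2 = 0 := C.eD_inj (by rw [h00, map_zero])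
    have k2 : (A.dec v).2.1 = 0 := C.eM.injective (by rw [h01, map_zero])
    have k3 : (A.dec v).1 = 0 := C.eX_inj (by rw [h11, map_zero])
    apply A.dec.injective
    rw [map_zero]
    exact Prod.ext k3 (Prod.ext k2 k1)
  · intro a
    refine ⟨A.up (C.eB.symm a), ?_, ?_⟩
    · rw [A.gen]
      exact Subgroup.subset_closure (Or.inl ⟨_, rfl⟩)
    · have := hup (C.eB.symm a)
      rwa [AddEquiv.apply_symm_apply] at this
  · intro a
    by_cases ha : a = 0
    · subst ha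
      refine ⟨1, one_mem _, ?_⟩
      rw [lo_zero]
      exact Acts.one
    · have hb : C.eB.symm a⁻¹ ≠ 0 := by
        intro h0
        have := congrArg C.eB h0
        rw [AddEquiv.apply_symm_apply, map_zero] at this
        exact inv_ne_zero ha this
      refine ⟨A.lo (C.eB.symm a⁻¹), ?_, ?_⟩
      · rw [A.gen]
        exact Subgroup.subset_closure (Or.inr ⟨_, hb, rfl⟩)
      · have := hlo _ hb
        rwa [AddEquiv.apply_symm_apply, inv_inv] at this

/-- **The end of the minus case**: the coordinates give the literal type. -/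
theorem Act.ty (h10 : CommStmt.{u}) (h11 : NormStmt.{u}) [Finite B] (A : Act S Y V) (h4 : 4 ≤ Nat.card X)
    {G : Type u} [Group G] {S₀ P : Subgroup G} {T : Sylow 2 Y} {Mx : Subgroup Y}
    (R : Rep S₀ P (zl S₀ P) Y V T Mx) : Ty S₀ P := by
  obtain ⟨k, _, _, _, ⟨f⟩⟩ := h10 B X M D S
  obtain ⟨K, _, _, _, σ, h1, h2, h3, ⟨C⟩⟩ := h11 B X M D S k ⟨f⟩
  obtain ⟨H⟩ := A.exists_herm h2 C
  refine Ty.minusQ K σ h1 h2 ?_ (H.minusQ R)
  have e : Nat.card X = Nat.card k := Nat.card_congr f.eX.toEquiv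
  rw [h3, ← e]
  nlinarith

end

end Cfsg.Agent.Omega.NO1.HE
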