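import Cfsg.Agent.Omega.NO1.HE.Coord
import Cfsg.Agent.Omega.NO1.HE.Trans
import Cfsg.Agent.Omega.NO1.HE.Plug

/-!
# The end of (BT): the system (8), (9) of #17521 and the action (N1, helper438)
-/

set_option autoImplicit false
set_option linter.unusedSectionVars false

namespace Cfsg.Agent.Omega.NO1.HE

open Subgroup
open scoped Pointwise

universe u

variable {Y : Type u} [Group Y] [Finite Y] {V : Type u} [AddCommGroup V] [Finite V] [DistribMulAction Y V]
  {Ω : Type u} [MulAction Y Ω]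

/-- the action of `g` on an invariant subgroup -/
def smulEquiv (W : AddSubgroup V) (g : Y) (h : ∀ w ∈ W, g • w ∈ W) (h' : ∀ w ∈ W, g⁻¹ • w ∈ W) : W ≃+ W where
  toFun w := ⟨g • (w : V), h w w.2⟩
  invFun w := ⟨g⁻¹ • (w : V), h' w w.2⟩
  left_inv w := Subtype.ext (inv_smul_smul g (w : V))
  right_inv w := Subtype.ext (smul_inv_smul g (w : V))
  map_add' v w := Subtype.ext (smul_add g (v : V) (w : V))

theorem dl_conj (g b : Y) (v : V) : dl (g * b * g⁻¹) (g • v) = g • dl b v := by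
  rw [dl_apply, dl_apply, smul_add, ← mul_smul, ← mul_smul]
  congr 2
  group

namespace Geo

variable {a : ℕ} (G : Geo a Y V Ω) {p q : Ω}

theorem op (hpq : p ≠ q) (s t : G.BB p) (hs : s ≠ 0) (ht : t ≠ 0) (hst : s ≠ t) : ∃ c : G.BB p, c ≠ 0 ∧
    (∀ x y, G.phi hpq s x = G.phi hpq t y → ∃ z, G.phi hpq c z = G.phi hpq s x ∧
      G.tau hpq c z = G.tau hpq s x + G.tau hpq t y ∧
      G.phi hpq t (z + x + y) = G.ell hpq t (G.tau hpq s x)) ∧
    (∀ m x y, G.phi hpq s x = G.ell hpq s m → G.phi hpq t y = G.ell hpq t m →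
      G.phi hpq c (x + y) = G.ell hpq c m) := by
  obtain ⟨α, hα, hαp⟩ := G.exists_opp s.v_mem (G.v_ne hs) hpq
  obtain ⟨β, hβ, hβp⟩ := G.exists_opp t.v_mem (G.v_ne ht) hpq
  have hγ : α * β ∈ G.B q := (G.B q).mul_mem hα hβ
  have hγ1 : α * β ≠ 1 := by
    intro h1
    have h3 : α = β := by
      have h4 := (G.fr q).sq β hβ
      exact mul_right_cancel (h1.trans h4.symm)
    have h5 : s.v • q = t.v • q := by rw [← hαp, ← hβp, h3]
    have h6 : (s + t).v • q = q := by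
      rw [AB.v_add, mul_smul, ← h5, ← mul_smul, (G.fr p).sq s.v s.v_mem, one_smul]
    have h7 : s + t ≠ 0 := fun h8 => hst ((add_eq_zero' (AB.two (G.fr p).sq)).1 h8)
    exact hpq (G.free (s + t).v_mem (G.v_ne h7) h6).symm
  have hγq : (α * β) • p ≠ q := by
    intro h1
    have h3 : (α * β) • q = q := G.fix hγ
    exact hpq (smul_left_cancel _ (h1.trans h3.symm))
  have hγp : (α * β) • p ≠ p := fun h1 => hpq (G.free hγ hγ1 h1)
  obtain ⟨c, hc, hcq⟩ := G.exists_B hpq.symm hγp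
  have hc1 : c ≠ 1 := by
    rintro rfl
    rw [one_smul] at hcq
    exact hγq hcq.symm
  have hc0 : (AB.mk c hc : G.BB p) ≠ 0 := fun h => hc1 (congrArg AB.v h)
  refine ⟨AB.mk c hc, hc0, ?_, ?_⟩
  · intro x y hxy
    obtain ⟨z, hz⟩ := G.phi_surj hpq hc0 (G.phi hpq s x)
    obtain ⟨x', hx'⟩ := G.phi_surj hpq ht (G.ell hpq t (G.tau hpq s x))
    have e1 := G.opp_X hpq hα hαp x
    have e2 := G.opp_X hpq hβ hβp y
    have e3 := G.opp_X hpq (b := AB.mk c hc) hγ hcq.symm z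
    have e4 := G.opp_M hpq hβ hβp (G.tau hpq s x) hx' ht
    rw [hz, (G.fr q).comm α hα β hβ, mul_smul, e1, G.smul_X hpq, G.smul_X hpq, smul_add, smul_add,
      hxy, e2, G.smul_X hpq, smul_eq G.two β (G.tau hpq s x : V), e4, hz] at e3
    have e5 : β • (x : V) = x := (dl_eq_zero G.two).1 (G.dl0 hβ x.2)
    rw [e5] at e3
    have e6 := G.dec_eq hpq (v := (x : V) + ((G.tau hpq s x : V) + (x' : V) +
      ((y : V) + ((G.tau hpq t y : V) + (G.phi hpq t y : V))))) ((x + x' + y).2)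
      ((G.tau hpq s x + G.tau hpq t y).2) ((G.phi hpq t y).2) (by
        rw [AddSubgroup.coe_add, AddSubgroup.coe_add, AddSubgroup.coe_add]
        abel)
    have e7 := G.dec_eq hpq (v := (x : V) + ((G.tau hpq s x : V) + (x' : V) +
      ((y : V) + ((G.tau hpq t y : V) + (G.phi hpq t y : V))))) z.2 (G.tau hpq (AB.mk c hc) z).2
      ((G.phi hpq s x).2) (by rw [e3])
    rw [e6] at e7
    have e8 := congrArg (fun t => t.1) e7
    have e9 := congrArg (fun t => t.2.1) e7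
    have e10 : x + x' + y = z := Subtype.ext (congrArg Subtype.val e8)
    refine ⟨z, hz, (Subtype.ext (congrArg Subtype.val e9)).symm, ?_⟩
    rw [← hx']
    congr 1
    have e11 := fun w : G.F q => (Subtype.ext (G.two w) : w + w = 0)
    rw [← e10]
    calc x + x' + y + x + y = x' + ((x + x) + (y + y)) := by abel
      _ = x' := by rw [e11, e11, add_zero, add_zero]
  · intro m x y hx hy
    obtain ⟨w, hw⟩ := G.phi_surj hpq hc0 (G.ell hpq (AB.mk c hc) m)
    have e1 := G.opp_M hpq hα hαp m hx hs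
    have e2 := G.opp_M hpq hβ hβp m hy ht
    have e3 := G.opp_M hpq (b := AB.mk c hc) hγ hcq.symm m hw hc0
    rw [dl_mul G.two, e1, e2, G.dl0 hα y.2, add_zero] at e3
    have e4 : x + y = w := Subtype.ext e3
    rw [e4, hw]

theorem trans (hpq : p ≠ q) (b1 b2 : G.BB p) (h1 : b1 ≠ 0) (h2 : b2 ≠ 0) :
    ∃ (hB : G.BB p ≃+ G.BB p) (hX : G.F q ≃+ G.F q) (hM : G.M p q ≃+ G.M p q) (hD : G.F p ≃+ G.F p),
      (∀ b x, hM (G.tau hpq b x) = G.tau hpq (hB b) (hX x)) ∧
      (∀ b m, hD (G.ell hpq b m) = G.ell hpq (hB b) (hM m)) ∧ hB b1 = b2 := by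
  obtain ⟨g, gp, gq, hg⟩ := Trans.exists_conj (R := G.B) (fun y r => (G.smulB y r).symm)
    (fun r b hb hb1 s hs => G.free hb hb1 hs) (fun r b hb => G.fix hb) (fun r => (G.fr r).sq)
    (fun r => (G.fr r).comm) (fun r s t hs ht => G.exists_B hs ht) p q hpq b1.v b1.v_mem b2.v b2.v_mem
    (G.v_ne h1) (G.v_ne h2)
  have gp' : g⁻¹ • p = p := by rw [inv_smul_eq_iff, gp]
  have gq' : g⁻¹ • q = q := by rw [inv_smul_eq_iff, gq]
  have mE : ∀ {y : Y} {r : Ω}, y • r = r → ∀ v ∈ G.E r, y • v ∈ G.E r := fun {y r} hy v hv => by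
    have := G.smul_memE (y := y) hv
    rwa [hy] at this
  have mF : ∀ {y : Y} {r : Ω}, y • r = r → ∀ v ∈ G.F r, y • v ∈ G.F r := fun {y r} hy v hv => by
    have := G.smul_memF (y := y) hv
    rwa [hy] at this
  have mB : ∀ {y : Y}, y • p = p → ∀ b ∈ G.B p, y * b * y⁻¹ ∈ G.B p := fun {y} hy b hb => by
    have := G.conj_memB (y := y) hb
    rwa [hy] at this
  let hB : G.BB p ≃+ G.BB p :=
    { toFun := fun b => AB.mk (g * b.v * g⁻¹) (mB gp b.v b.v_mem)
      invFun := fun b => AB.mk (g⁻¹ * b.v * g⁻¹⁻¹) (mB gp' b.v b.v_mem)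
      left_inv := fun b => AB.ext (by rw [AB.v_mk, AB.v_mk]; group)
      right_inv := fun b => AB.ext (by rw [AB.v_mk, AB.v_mk]; group)
      map_add' := fun b c => AB.ext (by rw [AB.v_mk, AB.v_add, AB.v_add, AB.v_mk, AB.v_mk]; group) }
  have hBv : ∀ b, (hB b).v = g * b.v * g⁻¹ := fun _ => rfl
  let hX := smulEquiv (G.F q) g (mF gq) (mF gq')
  let hM := smulEquiv (G.M p q) g (fun v hv => ⟨mE gp v hv.1, mE gq v hv.2⟩)
    (fun v hv => ⟨mE gp' v hv.1, mE gq' v hv.2⟩)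
  let hD := smulEquiv (G.F p) g (mF gp) (mF gp')
  have cX : ∀ x, (hX x : V) = g • (x : V) := fun _ => rfl
  have cM : ∀ x, (hM x : V) = g • (x : V) := fun _ => rfl
  have cD : ∀ x, (hD x : V) = g • (x : V) := fun _ => rfl
  refine ⟨hB, hX, hM, hD, ?_, ?_, ?_⟩
  · intro b x
    rw [G.tau_apply hpq (hB b) (hX x), hBv, cX, dl_conj, G.dl_X hpq, smul_add, map_add]
    have e1 : g • (G.tau hpq b x : V) ∈ G.M p q := (hM (G.tau hpq b x)).2
    rw [G.pM_M hpq e1, G.pM_F hpq (mF gp _ (G.phi hpq b x).2), add_zero]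
    rfl
  · intro b m
    refine Subtype.ext ?_
    rw [G.coe_ell hpq, hBv, cM, cD, dl_conj, G.coe_ell hpq]
  · exact AB.ext hg

/-- the system (8), (9) -/
noncomputable def sys (hpq : p ≠ q) : Sys (G.BB p) (G.F q) (G.M p q) (G.F p) where
  τ := G.tau hpq
  l := G.ell hpq
  φ := G.phi hpq
  twoB := AB.two (G.fr p).sq
  twoX := fun x => Subtype.ext (G.two x)
  twoM := fun x => Subtype.ext (G.two x)
  twoD := fun x => Subtype.ext (G.two x)
  φ_add := by
    intro b c x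
    rw [add_comm b c]
    refine Subtype.ext ?_
    have e1 : dl c.v (dl b.v (x : V)) = (G.ell hpq c (G.tau hpq b x) : V) := by
      rw [G.dl_X hpq, map_add, G.dl0 c.v_mem (G.phi hpq b x).2, add_zero, G.coe_ell hpq]
    have e2 : G.phi hpq (c + b) x = G.phi hpq c x + G.phi hpq b x + G.ell hpq c (G.tau hpq b x) := by
      rw [phi_apply, AB.v_add, dl_mul G.two, map_add, map_add, e1, G.pD_F hpq (G.ell hpq c _).2]
      rfl
    rw [e2, add_comm (G.phi hpq c x)]
  lτ := G.ell_tau hpq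
  τ_ne := fun b x hb hx => G.tau_ne hpq hb hx
  τ_surj := fun x hx m => G.tau_surj hpq hx m
  φ_inj := fun b hb => G.phi_inj hpq hb
  φ_surj := fun b hb => G.phi_surj hpq hb
  l_surj := fun b hb d => G.ell_surj hpq hb d
  l_ker := fun b m hb hm => G.ell_ker hpq hb hm
  l_surj' := fun m hm d => G.ell_surj' hpq hm d
  op := G.op hpq
  trans := G.trans hpq
  ntX := by
    obtain ⟨x, hx⟩ := (G.fr q).ne'
    obtain ⟨b, hb, e, he, hne⟩ := (G.fr q).exists_dl_ne G.two
    exact ⟨⟨_, G.dlF hb he⟩, fun h => hne (congrArg Subtype.val h)⟩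
  ntB := G.exists_b

/-- `α` with `∞^α = 0^b` -/
theorem exists_lo (hpq : p ≠ q) (b : G.BB p) : ∃ c : Y, c ∈ G.B q ∧ (b ≠ 0 → c • p = b.v • q) := by
  by_cases hb : b = 0
  · exact ⟨1, (G.B q).one_mem, fun h => absurd hb h⟩
  · obtain ⟨c, hc, h⟩ := G.exists_opp b.v_mem (G.v_ne hb) hpq
    exact ⟨c, hc, fun _ => h⟩

noncomputable def lo (hpq : p ≠ q) (b : G.BB p) : Y := (G.exists_lo hpq b).choose

theorem lo_mem (hpq : p ≠ q) (b : G.BB p) : G.lo hpq b ∈ G.B q := (G.exists_lo hpq b).choose_spec.1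

theorem lo_smul (hpq : p ≠ q) {b : G.BB p} (hb : b ≠ 0) : G.lo hpq b • p = b.v • q :=
  (G.exists_lo hpq b).choose_spec.2 hb

/-- the generators -/
def gens (hpq : p ≠ q) : Set Y :=
  Set.range (fun b : G.BB p => b.v) ∪ {y | ∃ b : G.BB p, b ≠ 0 ∧ y = G.lo hpq b}

theorem B_le_gens (hpq : p ≠ q) (r : Ω) : G.B r ≤ closure (G.gens hpq) := by
  have hp : G.B p ≤ closure (G.gens hpq) := fun b hb =>
    subset_closure (Or.inl ⟨AB.mk b hb, rfl⟩)
  have hq : G.B q ≤ closure (G.gens hpq) := by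
    intro c hc
    by_cases hc1 : c = 1
    · rw [hc1]; exact one_mem _
    have h1 : c • p ≠ p := fun h => hpq (G.free hc hc1 h)
    obtain ⟨b, hb, hbq⟩ := G.exists_B hpq.symm h1
    have hb1 : b ≠ 1 := by
      rintro rfl
      rw [one_smul] at hbq
      have h3 : c • q = q := G.fix hc
      exact hpq (smul_left_cancel c (hbq.symm.trans h3.symm))
    have hb0 : (AB.mk b hb : G.BB p) ≠ 0 := fun h => hb1 (congrArg AB.v h)
    refine subset_closure (Or.inr ⟨AB.mk b hb, hb0, ?_⟩)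
    have h3 := G.lo_smul hpq hb0
    rw [AB.v_mk, hbq] at h3
    by_contra hne
    have h4 : (G.lo hpq (AB.mk b hb))⁻¹ * c ≠ 1 := fun h => hne (by
      rw [inv_mul_eq_one] at h; exact h.symm)
    refine hpq (G.free (r := p) ((G.B q).mul_mem ((G.B q).inv_mem (G.lo_mem hpq _)) hc) h4 ?_)
    rw [mul_smul, inv_smul_eq_iff, h3]
  by_cases hr : r = p
  · rw [hr]; exact hp
  · obtain ⟨b, hb, hbq⟩ := G.exists_B hpq.symm hr
    rw [← hbq, ← G.smulB]
    intro y hy
    rw [mem_conj] at hy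
    have h1 : y = b * (b⁻¹ * y * b) * b⁻¹ := by group
    rw [h1]
    exact mul_mem (mul_mem (hp hb) (hq hy)) (inv_mem (hp hb))

theorem gens_normal (hpq : p ≠ q) : (closure (G.gens hpq)).Normal := by
  have h1 : closure (G.gens hpq) = normalClosure ((G.B p : Set Y) ∪ G.B q) := by
    apply le_antisymm
    · rw [closure_le]
      rintro y (⟨b, rfl⟩ | ⟨b, hb, rfl⟩)
      · exact subset_normalClosure (Or.inl b.v_mem)
      · exact subset_normalClosure (Or.inr (G.lo_mem hpq b))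
    · refine (closure_le _).2 ?_
      intro y hy
      obtain ⟨x, hx, hxy⟩ := Group.mem_conjugatesOfSet_iff.1 hy
      obtain ⟨g, rfl⟩ := isConj_iff.1 hxy
      rcases hx with hx | hx
      · exact G.B_le_gens hpq _ (G.conj_memB hx)
      · exact G.B_le_gens hpq _ (G.conj_memB hx)
  rw [h1]
  exact normalClosure_normal

/-- the action -/
noncomputable def act (hpq : p ≠ q) : Act (G.sys hpq) Y V where
  dec := G.dec hpq
  L := closure (G.gens hpq)
  normal := G.gens_normal hpq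
  up := fun b => b.v
  lo := G.lo hpq
  gen := rfl
  up_act := by
    intro b v
    have h1 := G.dec_spec hpq v
    set x := (G.dec hpq v).1
    set m := (G.dec hpq v).2.1
    set d := (G.dec hpq v).2.2
    refine G.dec_eq hpq x.2 (m + G.tau hpq b x).2 (d + G.ell hpq b m + G.phi hpq b x).2 ?_
    rw [← h1, smul_add, smul_add, G.smul_X hpq, G.smul_M hpq, G.smul_D b d, AddSubgroup.coe_add,
      AddSubgroup.coe_add, AddSubgroup.coe_add]
    abel
  lo_act := by
    intro b hb v x1 x2 h1 h2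
    have h3 := G.dec_spec hpq v
    set x := (G.dec hpq v).1
    set m := (G.dec hpq v).2.1
    set d := (G.dec hpq v).2.2
    refine G.dec_eq hpq (x + x2 + x1).2 (m + G.tau hpq b x1).2 d.2 ?_
    have e1 := G.opp_X hpq (G.lo_mem hpq b) (G.lo_smul hpq hb) x1
    have e2 := G.opp_M hpq (G.lo_mem hpq b) (G.lo_smul hpq hb) m h2 hb
    have e3 : G.lo hpq b • (x : V) = x := (dl_eq_zero G.two).1 (G.dl0 (G.lo_mem hpq b) x.2)
    have h1' : G.phi hpq b x1 = d := h1
    rw [h1', G.smul_X hpq, h1'] at e1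
    rw [← h3, smul_add, smul_add, e3, smul_eq G.two _ (m : V), e2, e1, AddSubgroup.coe_add,
      AddSubgroup.coe_add, AddSubgroup.coe_add]
    abel

end Geo

end Cfsg.Agent.Omega.NO1.HE
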