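import Mathlib

/-!
# Quadratic maps between elementary abelian 2-groups: Gauss sums (N1, text #17521 (2), (4))

`g : S → Q` quadratic with polar map `L`; `S_ψ = ∑ (-1)^ψ(g s)`.

* `gauss_one` : one zero and all polar forms zero or of large rank ⟹ `|S| ≤ |Q|²`, with equality only if no
  polar form vanishes;
* `gauss_two` : `|S| = |Q|²`, all polar forms nondegenerate ⟹ `g` is onto.
-/

set_option autoImplicit false

namespace Cfsg.Agent.Omega.NO1.HE

open Finset

/-- the sign -/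
def sgn (x : ZMod 2) : ℤ := if x = 0 then 1 else -1

theorem sgn_add (x y : ZMod 2) : sgn (x + y) = sgn x * sgn y := by
  revert x y; decide

theorem sgn_sq (x : ZMod 2) : sgn x * sgn x = 1 := by
  revert x; decide

theorem sgn_zero : sgn 0 = 1 := rfl

theorem sgn_le (x : ZMod 2) : sgn x ≤ 1 := by
  revert x; decide

theorem le_sgn (x : ZMod 2) : -1 ≤ sgn x := by
  revert x; decide

theorem sgn_eq {x : ZMod 2} (h : x ≠ 0) : sgn x = -1 := if_neg h

section sums

variable {A : Type*} [AddCommGroup A] [Fintype A]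

theorem sum_sgn_eq_zero (f : A →+ ZMod 2) {a : A} (h : f a ≠ 0) : ∑ x, sgn (f x) = 0 := by
  have h1 : ∑ x, sgn (f (x + a)) = ∑ x, sgn (f x) :=
    Equiv.sum_comp (Equiv.addRight a) (fun x => sgn (f x))
  simp only [map_add, sgn_add, sgn_eq h, mul_neg, mul_one, Finset.sum_neg_distrib] at h1
  omega

theorem sum_sgn_le (q : A → ZMod 2) : ∑ x, sgn (q x) ≤ Fintype.card A := by
  calc ∑ x, sgn (q x) ≤ ∑ _x : A, (1 : ℤ) := Finset.sum_le_sum fun x _ => sgn_le _
    _ = Fintype.card A := by simp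

/-- the square of a Gauss sum -/
theorem gauss_sq (q : A → ZMod 2) (B : A →+ A →+ ZMod 2) (hq : ∀ s t, q (s + t) = q s + q t + B s t)
    (R : AddSubgroup A) (hR : ∀ s, s ∈ R ↔ ∀ t, B s t = 0) :
    (∑ s, sgn (q s)) * (∑ s, sgn (q s)) ≤ Fintype.card A * Nat.card R := by
  classical
  have hs : ∀ s t, B s t = B t s := by
    intro s t
    have h1 := hq s t
    rw [add_comm s t, hq t s, add_comm (q t) (q s)] at h1
    exact (add_left_cancel h1).symm
  have h1 : (∑ s, sgn (q s)) * (∑ s, sgn (q s)) = ∑ u, sgn (q u) * ∑ s, sgn (B u s) := by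
    calc (∑ s, sgn (q s)) * (∑ s, sgn (q s)) = ∑ s, ∑ t, sgn (q s) * sgn (q t) := by
          rw [Finset.sum_mul_sum]
      _ = ∑ s, ∑ u, sgn (q s) * sgn (q (s + u)) := by
          refine Finset.sum_congr rfl fun s _ => ?_
          exact (Equiv.sum_comp (Equiv.addLeft s) (fun t => sgn (q s) * sgn (q t))).symm
      _ = ∑ s, ∑ u, sgn (q u) * sgn (B u s) := by
          refine Finset.sum_congr rfl fun s _ => Finset.sum_congr rfl fun u _ => ?_
          rw [hq, sgn_add, sgn_add, hs s u]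
          calc sgn (q s) * (sgn (q s) * sgn (q u) * sgn (B u s)) =
              (sgn (q s) * sgn (q s)) * (sgn (q u) * sgn (B u s)) := by ring
            _ = _ := by rw [sgn_sq, one_mul]
      _ = ∑ u, ∑ s, sgn (q u) * sgn (B u s) := Finset.sum_comm
      _ = _ := by
          refine Finset.sum_congr rfl fun u _ => ?_
          rw [Finset.mul_sum]
  rw [h1]
  have h2 : ∀ u, ∑ s, sgn (B u s) = if u ∈ R then (Fintype.card A : ℤ) else 0 := by
    intro u
    by_cases hu : u ∈ R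
    · rw [if_pos hu]
      have h3 : ∀ s, sgn (B u s) = 1 := fun s => by rw [(hR u).1 hu s]; rfl
      simp [h3]
    · rw [if_neg hu]
      rw [hR] at hu
      push Not at hu
      obtain ⟨t, ht⟩ := hu
      exact sum_sgn_eq_zero (B u) ht
  have h3 : ∀ u, sgn (q u) * ∑ s, sgn (B u s) ≤ if u ∈ R then (Fintype.card A : ℤ) else 0 := by
    intro u
    rw [h2]
    split_ifs
    · calc sgn (q u) * (Fintype.card A : ℤ) ≤ 1 * (Fintype.card A : ℤ) :=
            mul_le_mul_of_nonneg_right (sgn_le _) (by positivity)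
        _ = _ := one_mul _
    · rw [mul_zero]
  calc ∑ u, sgn (q u) * ∑ s, sgn (B u s) ≤ ∑ u, if u ∈ R then (Fintype.card A : ℤ) else 0 :=
        Finset.sum_le_sum fun u _ => h3 u
    _ = Fintype.card A * Nat.card R := by
        rw [← Finset.sum_filter, Finset.sum_const, nsmul_eq_mul, mul_comm]
        congr 2
        rw [Nat.card_eq_fintype_card, Fintype.card_subtype]

end sums

section dual

variable {Q : Type*} [AddCommGroup Q]

theorem exists_dual (hQ : ∀ q : Q, q + q = 0) {q : Q} (h : q ≠ 0) : ∃ ψ : Q →+ ZMod 2, ψ q ≠ 0 := by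
  letI : Module (ZMod 2) Q := AddCommGroup.zmodModule (fun x => by rw [two_nsmul]; exact hQ x)
  by_contra hcon
  push Not at hcon
  exact h ((Module.forall_dual_apply_eq_zero_iff (ZMod 2) q).1 fun f => hcon f.toAddMonoidHom)

instance finite_dual [Finite Q] : Finite (Q →+ ZMod 2) :=
  Finite.of_injective (fun f => (f : Q → ZMod 2)) DFunLike.coe_injective

variable [Fintype Q] [Fintype (Q →+ ZMod 2)]

theorem sum_dual (hQ : ∀ q : Q, q + q = 0) {q : Q} (h : q ≠ 0) : ∑ ψ : Q →+ ZMod 2, sgn (ψ q) = 0 := by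
  obtain ⟨ψ, hψ⟩ := exists_dual hQ h
  exact sum_sgn_eq_zero (AddMonoidHom.eval q) (a := ψ) hψ

theorem card_dual (hQ : ∀ q : Q, q + q = 0) : Fintype.card (Q →+ ZMod 2) = Fintype.card Q := by
  have h1 : ∑ q : Q, ∑ ψ : Q →+ ZMod 2, sgn (ψ q) = Fintype.card (Q →+ ZMod 2) := by
    rw [Finset.sum_eq_single (0 : Q)]
    · simp [sgn_zero]
    · intro q _ hq
      exact sum_dual hQ hq
    · intro h; exact absurd (Finset.mem_univ _) h
  have h2 : ∑ q : Q, ∑ ψ : Q →+ ZMod 2, sgn (ψ q) = Fintype.card Q := by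
    rw [Finset.sum_comm, Finset.sum_eq_single (0 : Q →+ ZMod 2)]
    · simp [sgn_zero]
    · intro ψ _ hψ
      obtain ⟨q, hq⟩ : ∃ q, ψ q ≠ 0 := by
        by_contra hcon
        push Not at hcon
        exact hψ (AddMonoidHom.ext hcon)
      exact sum_sgn_eq_zero ψ hq
    · intro h; exact absurd (Finset.mem_univ _) h
  have h3 := h1.symm.trans h2
  exact_mod_cast h3

end dual

section main

variable {S Q : Type*} [AddCommGroup S] [AddCommGroup Q]

/-- counting the solutions of `g s = q₀` -/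
theorem count [Fintype S] [Fintype Q] [Fintype (Q →+ ZMod 2)] [DecidableEq Q] (hQ : ∀ q : Q, q + q = 0)
    (g : S → Q) (q₀ : Q) :
    (Fintype.card Q : ℤ) * (Finset.univ.filter fun s => g s = q₀).card =
      ∑ ψ : Q →+ ZMod 2, sgn (ψ q₀) * ∑ s, sgn (ψ (g s)) := by
  have h1 : ∀ s, ∑ ψ : Q →+ ZMod 2, sgn (ψ q₀) * sgn (ψ (g s)) =
      if g s = q₀ then (Fintype.card Q : ℤ) else 0 := by
    intro s
    have h2 : ∀ ψ : Q →+ ZMod 2, sgn (ψ q₀) * sgn (ψ (g s)) = sgn (ψ (q₀ + g s)) := fun ψ => by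
      rw [map_add, sgn_add]
    simp only [h2]
    split_ifs with h
    · rw [h, hQ, ← card_dual hQ]
      simp [sgn_zero]
    · apply sum_dual hQ
      intro h0
      apply h
      have h3 : g s = q₀ + (q₀ + g s) := by rw [← add_assoc, hQ, zero_add]
      rw [h3, h0, add_zero]
  calc (Fintype.card Q : ℤ) * (Finset.univ.filter fun s => g s = q₀).card
      = ∑ s, if g s = q₀ then (Fintype.card Q : ℤ) else 0 := by
        rw [← Finset.sum_filter, Finset.sum_const, nsmul_eq_mul, mul_comm]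
    _ = ∑ s, ∑ ψ : Q →+ ZMod 2, sgn (ψ q₀) * sgn (ψ (g s)) :=
        Finset.sum_congr rfl fun s _ => (h1 s).symm
    _ = ∑ ψ : Q →+ ZMod 2, ∑ s, sgn (ψ q₀) * sgn (ψ (g s)) := Finset.sum_comm
    _ = _ := Finset.sum_congr rfl fun ψ _ => by rw [Finset.mul_sum]

/-- the polar form of `ψ ∘ g` -/
theorem polar (g : S → Q) (L : S →+ S →+ Q) (hg : ∀ s t, g (s + t) = g s + g t + L s t)
    (ψ : Q →+ ZMod 2) (s t : S) :
    ψ (g (s + t)) = ψ (g s) + ψ (g t) + ((AddMonoidHom.compHom ψ).comp L) s t := by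
  rw [hg, map_add, map_add]; rfl

/-- the radical -/
def rad (L : S →+ S →+ Q) (ψ : Q →+ ZMod 2) : AddSubgroup S where
  carrier := {s | ∀ t, ψ (L s t) = 0}
  zero_mem' := fun t => by simp
  add_mem' := by
    intro a b ha hb t
    rw [map_add, AddMonoidHom.add_apply, map_add, ha t, hb t, add_zero]
  neg_mem' := by
    intro a ha t
    rw [map_neg, AddMonoidHom.neg_apply, map_neg, ha t, neg_zero]

theorem g_zero (g : S → Q) (L : S →+ S →+ Q) (hg : ∀ s t, g (s + t) = g s + g t + L s t) : g 0 = 0 := by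
  have h := hg 0 0
  rw [map_zero, add_zero, add_zero] at h
  exact left_eq_add.1 h

theorem gauss_one [Finite S] [Finite Q] (_hS : ∀ s : S, s + s = 0) (hQ : ∀ q : Q, q + q = 0)
    (g : S → Q) (L : S →+ S →+ Q) (hg : ∀ s t, g (s + t) = g s + g t + L s t) (h0 : ∀ s, g s = 0 → s = 0)
    (hL : ∀ ψ : Q →+ ZMod 2, (∀ s t, ψ (L s t) = 0) ∨
      ∀ R : AddSubgroup S, (∀ s, s ∈ R ↔ ∀ t, ψ (L s t) = 0) → Nat.card Q ^ 2 ≤ R.index) :
    Nat.card S ≤ Nat.card Q ^ 2 ∧
      (Nat.card S = Nat.card Q ^ 2 → ∀ ψ : Q →+ ZMod 2, ψ ≠ 0 → ¬ ∀ s t, ψ (L s t) = 0) := by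
  classical
  have := Fintype.ofFinite S
  have := Fintype.ofFinite Q
  have := Fintype.ofFinite (Q →+ ZMod 2)
  rw [Nat.card_eq_fintype_card, Nat.card_eq_fintype_card] at *
  set m : ℤ := (Fintype.card S : ℤ) with hm
  set a : ℤ := (Fintype.card Q : ℤ) with ha
  have hmpos : 0 < m := by rw [hm]; exact_mod_cast Fintype.card_pos
  have hapos : 0 < a := by rw [ha]; exact_mod_cast Fintype.card_pos
  -- the count
  have h1 := count hQ g 0
  have h2 : (Finset.univ.filter fun s => g s = 0) = {0} := by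
    ext s
    simp only [Finset.mem_filter, Finset.mem_univ, true_and, Finset.mem_singleton]
    exact ⟨h0 s, fun h => by rw [h]; exact g_zero g L hg⟩
  rw [h2, Finset.card_singleton] at h1
  simp only [map_zero, sgn_zero, one_mul, Nat.cast_one, mul_one] at h1
  rw [← Finset.add_sum_erase _ _ (Finset.mem_univ (0 : Q →+ ZMod 2))] at h1
  have h3 : ∑ s : S, sgn ((0 : Q →+ ZMod 2) (g s)) = m := by
    simp [sgn_zero, hm]
  rw [h3] at h1
  -- the values
  have hz : ∀ ψ : Q →+ ZMod 2, (∀ s t, ψ (L s t) = 0) → 0 ≤ ∑ s, sgn (ψ (g s)) := by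
    intro ψ h
    let f : S →+ ZMod 2 := AddMonoidHom.mk' (fun s => ψ (g s)) fun s t => by rw [hg, map_add, map_add, h, add_zero]
    by_cases hf : ∃ s, f s ≠ 0
    · obtain ⟨s, hs⟩ := hf
      have h4 := sum_sgn_eq_zero f hs
      exact h4.symm.le
    · push Not at hf
      have h4 : ∀ s, sgn (ψ (g s)) = 1 := fun s => by
        have : ψ (g s) = 0 := hf s
        rw [this]; rfl
      exact Finset.sum_nonneg fun s _ => by rw [h4]; exact zero_le_one
  have hval : ∀ ψ : Q →+ ZMod 2, -m ≤ a * ∑ s, sgn (ψ (g s)) := by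
    intro ψ
    rcases hL ψ with h | h
    · have := mul_nonneg hapos.le (hz ψ h)
      linarith
    · have h4 := h (rad L ψ) (fun s => Iff.rfl)
      have h5 := gauss_sq (fun s => ψ (g s)) ((AddMonoidHom.compHom ψ).comp L) (polar g L hg ψ) (rad L ψ)
        (fun s => Iff.rfl)
      have h6 : (Nat.card (rad L ψ) : ℤ) * (rad L ψ).index = m := by
        rw [hm, ← Nat.card_eq_fintype_card]
        exact_mod_cast (rad L ψ).card_mul_index
      set G := ∑ s, sgn (ψ (g s)) with hG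
      set r : ℤ := (Nat.card (rad L ψ) : ℤ) with hr
      have hr0 : 0 ≤ r := by positivity
      have h7 : a ^ 2 ≤ ((rad L ψ).index : ℤ) := by rw [ha]; exact_mod_cast h4
      have h8 : r * a ^ 2 ≤ m := by
        rw [← h6]
        exact mul_le_mul_of_nonneg_left h7 hr0
      have h9 : (a * G) ^ 2 ≤ m ^ 2 := by
        calc (a * G) ^ 2 = a ^ 2 * (G * G) := by ring
          _ ≤ a ^ 2 * (m * r) := mul_le_mul_of_nonneg_left h5 (by positivity)
          _ = m * (r * a ^ 2) := by ring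
          _ ≤ m * m := mul_le_mul_of_nonneg_left h8 hmpos.le
          _ = m ^ 2 := by ring
      exact (abs_le.1 (abs_le_of_sq_le_sq h9 hmpos.le)).1
  -- the sum over `ψ ≠ 0`
  have hcard : ((Finset.univ.erase (0 : Q →+ ZMod 2)).card : ℤ) = a - 1 := by
    rw [Finset.card_erase_of_mem (Finset.mem_univ _), Finset.card_univ, card_dual hQ, ha]
    have : 1 ≤ Fintype.card Q := Fintype.card_pos
    push_cast [Nat.cast_sub this]
    rfl
  have h4 : a * a = a * m + ∑ ψ ∈ Finset.univ.erase (0 : Q →+ ZMod 2), a * ∑ s, sgn (ψ (g s)) := by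
    rw [← Finset.mul_sum, ← mul_add, ← h1]
  have h5 : (a - 1) * (-m) ≤ ∑ ψ ∈ Finset.univ.erase (0 : Q →+ ZMod 2), a * ∑ s, sgn (ψ (g s)) := by
    calc (a - 1) * (-m) = ∑ _ψ ∈ Finset.univ.erase (0 : Q →+ ZMod 2), (-m) := by
          rw [Finset.sum_const, nsmul_eq_mul, hcard]
      _ ≤ _ := Finset.sum_le_sum fun ψ _ => hval ψ
  have h6 : m ≤ a ^ 2 := by nlinarith
  refine ⟨by rw [hm, ha] at h6; exact_mod_cast h6, fun he ψ hψ hcon => ?_⟩
  have he' : m = a ^ 2 := by rw [hm, ha]; exact_mod_cast he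
  -- one value is `≥ 0`
  have h7 : (a - 1) * (-m) + m ≤ ∑ ψ ∈ Finset.univ.erase (0 : Q →+ ZMod 2), a * ∑ s, sgn (ψ (g s)) := by
    have hmem : ψ ∈ Finset.univ.erase (0 : Q →+ ZMod 2) := Finset.mem_erase.2 ⟨hψ, Finset.mem_univ _⟩
    rw [← Finset.add_sum_erase _ _ hmem]
    have h8 : ((Finset.univ.erase (0 : Q →+ ZMod 2)).erase ψ).card = a - 2 := by
      rw [Finset.card_erase_of_mem hmem]
      have h9 : 1 ≤ (Finset.univ.erase (0 : Q →+ ZMod 2)).card := Finset.card_pos.2 ⟨ψ, hmem⟩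
      push_cast [Nat.cast_sub h9]
      rw [hcard]; ring
    have h9 : (a - 2) * (-m) ≤ ∑ ψ ∈ (Finset.univ.erase (0 : Q →+ ZMod 2)).erase ψ, a * ∑ s, sgn (ψ (g s)) := by
      calc (a - 2) * (-m) = ∑ _ψ ∈ (Finset.univ.erase (0 : Q →+ ZMod 2)).erase ψ, (-m) := by
            rw [Finset.sum_const, nsmul_eq_mul, h8]
        _ ≤ _ := Finset.sum_le_sum fun ψ _ => hval ψ
    have h10 := mul_nonneg hapos.le (hz ψ hcon)
    nlinarith
  nlinarith

theorem gauss_two [Finite S] [Finite Q] (_hS : ∀ s : S, s + s = 0) (hQ : ∀ q : Q, q + q = 0)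
    (g : S → Q) (L : S →+ S →+ Q) (hg : ∀ s t, g (s + t) = g s + g t + L s t)
    (hc : Nat.card S = Nat.card Q ^ 2)
    (hL : ∀ ψ : Q →+ ZMod 2, ψ ≠ 0 → ∀ s, (∀ t, ψ (L s t) = 0) → s = 0) (q : Q) : ∃ s, g s = q := by
  classical
  have := Fintype.ofFinite S
  have := Fintype.ofFinite Q
  have := Fintype.ofFinite (Q →+ ZMod 2)
  rw [Nat.card_eq_fintype_card, Nat.card_eq_fintype_card] at hc
  set m : ℤ := (Fintype.card S : ℤ) with hm
  set a : ℤ := (Fintype.card Q : ℤ) with ha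
  have hapos : 0 < a := by rw [ha]; exact_mod_cast Fintype.card_pos
  have hma : m = a ^ 2 := by rw [hm, ha]; exact_mod_cast hc
  have h1 := count hQ g q
  rw [← Finset.add_sum_erase _ _ (Finset.mem_univ (0 : Q →+ ZMod 2))] at h1
  have h3 : sgn ((0 : Q →+ ZMod 2) q) * ∑ s : S, sgn ((0 : Q →+ ZMod 2) (g s)) = m := by
    simp [sgn_zero, hm]
  rw [h3] at h1
  have hval : ∀ ψ ∈ Finset.univ.erase (0 : Q →+ ZMod 2), -a ≤ sgn (ψ q) * ∑ s, sgn (ψ (g s)) := by
    intro ψ hψ
    have h5 := gauss_sq (fun s => ψ (g s)) ((AddMonoidHom.compHom ψ).comp L) (polar g L hg ψ) (rad L ψ)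
      (fun s => Iff.rfl)
    have h6 : Nat.card (rad L ψ) = 1 := by
      have h7 : rad L ψ = ⊥ := by
        rw [eq_bot_iff]
        intro s hs
        exact hL ψ (Finset.mem_erase.1 hψ).1 s hs
      rw [h7]
      exact AddSubgroup.card_bot
    rw [h6] at h5
    have h7 : (sgn (ψ q) * ∑ s, sgn (ψ (g s))) ^ 2 ≤ a ^ 2 := by
      calc (sgn (ψ q) * ∑ s, sgn (ψ (g s))) ^ 2
          = (sgn (ψ q) * sgn (ψ q)) * ((∑ s, sgn (ψ (g s))) * ∑ s, sgn (ψ (g s))) := by ring
        _ ≤ a ^ 2 := by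
          rw [sgn_sq, one_mul, ← hma]
          simpa using h5
    exact (abs_le.1 (abs_le_of_sq_le_sq h7 hapos.le)).1
  have hcard : ((Finset.univ.erase (0 : Q →+ ZMod 2)).card : ℤ) = a - 1 := by
    rw [Finset.card_erase_of_mem (Finset.mem_univ _), Finset.card_univ, card_dual hQ, ha]
    have : 1 ≤ Fintype.card Q := Fintype.card_pos
    push_cast [Nat.cast_sub this]
    rfl
  have h4 : (a - 1) * (-a) ≤ ∑ ψ ∈ Finset.univ.erase (0 : Q →+ ZMod 2), sgn (ψ q) * ∑ s, sgn (ψ (g s)) := by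
    calc (a - 1) * (-a) = ∑ _ψ ∈ Finset.univ.erase (0 : Q →+ ZMod 2), (-a) := by
          rw [Finset.sum_const, nsmul_eq_mul, hcard]
      _ ≤ _ := Finset.sum_le_sum hval
  have h5 : 0 < a * (Finset.univ.filter fun s => g s = q).card := by
    rw [h1, hma]
    nlinarith
  have h6 : 0 < (Finset.univ.filter fun s => g s = q).card := by
    by_contra h7
    have h8 : (Finset.univ.filter fun s => g s = q).card = 0 := by omega
    rw [h8] at h5
    simp at h5
  obtain ⟨s, hs⟩ := Finset.card_pos.1 h6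
  exact ⟨s, (Finset.mem_filter.1 hs).2⟩

end main

end Cfsg.Agent.Omega.NO1.HE
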