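import Cfsg.Agent.Omega.NO1.HE.Base
import Cfsg.Agent.Omega.NO1.HE.Gauss
import Cfsg.Agent.Omega.NearFF.Pfaff

/-!
# The end of (BT): (1)-(4) of #17521 (N1, helper438)
-/

set_option autoImplicit false
set_option linter.unusedSectionVars false

namespace Cfsg.Agent.Omega.NO1.HE

open Subgroup
open scoped Pointwise

universe u

section AB

variable {Y : Type u} [Group Y]

/-- `B` additively -/
def AB (B : Subgroup Y) (_ : ∀ b ∈ B, ∀ c ∈ B, b * c = c * b) : Type u := Additive B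

variable {B : Subgroup Y} {hc : ∀ b ∈ B, ∀ c ∈ B, b * c = c * b}

instance : AddCommGroup (AB B hc) :=
  { (inferInstance : AddGroup (Additive B)) with
    add_comm := fun a b => congrArg Additive.ofMul (Subtype.ext (hc _ (a.toMul : B).2 _ (b.toMul : B).2)) }

instance [Finite Y] : Finite (AB B hc) := inferInstanceAs (Finite B)

/-- the element of `Y` -/
def AB.v (s : AB B hc) : Y := ((Additive.toMul s : B) : Y)

def AB.mk (b : Y) (hb : b ∈ B) : AB B hc := Additive.ofMul (⟨b, hb⟩ : B)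

theorem AB.v_mem (s : AB B hc) : s.v ∈ B := (Additive.toMul s : B).2

@[simp] theorem AB.v_mk (b : Y) (hb : b ∈ B) : (AB.mk b hb : AB B hc).v = b := rfl

theorem AB.v_add (s t : AB B hc) : (s + t).v = s.v * t.v := rfl

theorem AB.v_zero : (0 : AB B hc).v = 1 := rfl

theorem AB.ext {s t : AB B hc} (h : s.v = t.v) : s = t := by
  have : (Additive.toMul s : B) = Additive.toMul t := Subtype.ext h
  exact congrArg Additive.ofMul this

theorem AB.two (h2 : ∀ b ∈ B, b * b = 1) (s : AB B hc) : s + s = 0 :=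
  AB.ext (h2 _ s.v_mem)

theorem AB.card : Nat.card (AB B hc) = Nat.card B := rfl

end AB

section frames

variable {Y : Type u} [Group Y] {V : Type u} [AddCommGroup V] [DistribMulAction Y V]
  {Ω : Type u} [MulAction Y Ω]

/-- `v ↦ [v, b]` -/
def dl (b : Y) : V →+ V :=
  AddMonoidHom.mk' (fun v => b • v + v) (fun v w => by
    rw [smul_add]; abel)

theorem dl_apply (b : Y) (v : V) : dl b v = b • v + v := rfl

theorem dl_one (h2 : ∀ v : V, v + v = 0) (v : V) : dl (1 : Y) v = 0 := by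
  rw [dl_apply, one_smul, h2]

theorem dl_eq_zero (h2 : ∀ v : V, v + v = 0) {b : Y} {v : V} : dl b v = 0 ↔ b • v = v :=
  add_eq_zero' h2

theorem dl_comm {b c : Y} (h : b * c = c * b) (v : V) : dl b (dl c v) = dl c (dl b v) := by
  simp only [dl_apply, smul_add]
  rw [← mul_smul, ← mul_smul, h]
  abel

theorem dl_mul (h2 : ∀ v : V, v + v = 0) (b c : Y) (v : V) :
    dl (b * c) v = dl b v + dl c v + dl b (dl c v) := by
  simp only [dl_apply, smul_add, mul_smul]
  have h3 := h2 v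
  have h4 := h2 (b • v)
  have h5 := h2 (c • v)
  calc b • c • v + v = b • c • v + v + ((b • v + b • v) + (c • v + c • v) + (v + v)) := by
        rw [h3, h4, h5]; abel
    _ = _ := by abel

theorem dl_self (h2 : ∀ v : V, v + v = 0) {b : Y} (hb : b * b = 1) (v : V) : dl b (dl b v) = 0 := by
  have h1 := dl_mul h2 b b v
  rw [hb, dl_one h2, h2, zero_add] at h1
  exact h1.symm

theorem smul_eq (h2 : ∀ v : V, v + v = 0) (b : Y) (v : V) : b • v = v + dl b v := by
  rw [dl_apply, add_comm (b • v) v, ← add_assoc, h2, zero_add]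

namespace Fr

variable {a : ℕ} {T : Sylow 2 Y} {p : Ω} {E F : AddSubgroup V} {B : Subgroup Y}

theorem dlE (h : Fr a T p E F B) {b : Y} (hb : b ∈ B) (v : V) : dl b v ∈ E := h.VB b hb v

theorem dlF (h : Fr a T p E F B) {b : Y} (hb : b ∈ B) {e : V} (he : e ∈ E) : dl b e ∈ F := h.EB b hb e he

theorem dl0 (h2 : ∀ v : V, v + v = 0) (h : Fr a T p E F B) {b : Y} (hb : b ∈ B) {f : V} (hf : f ∈ F) :
    dl b f = 0 := (dl_eq_zero h2).2 (h.FB b hb f hf)

/-- `[v, s, t]` -/
noncomputable def Lam (h2 : ∀ v : V, v + v = 0) (h : Fr a T p E F B) :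
    V →+ AB B h.comm →+ AB B h.comm →+ V :=
  AddMonoidHom.mk' (fun v =>
    AddMonoidHom.mk' (fun s =>
      AddMonoidHom.mk' (fun t => dl t.v (dl s.v v)) (by
        intro t t'
        rw [AB.v_add, dl_mul h2, h.dl0 h2 t.v_mem (h.dlF t'.v_mem (h.dlE s.v_mem v)), add_zero]))
      (by
        intro s s'
        ext t
        change dl t.v (dl (s + s').v v) = dl t.v (dl s.v v) + dl t.v (dl s'.v v)
        rw [AB.v_add, dl_mul h2, map_add, map_add, h.dl0 h2 t.v_mem (h.dlF s.v_mem (h.dlE s'.v_mem v)),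
          add_zero]))
    (by
      intro v w
      ext s t
      change dl t.v (dl s.v (v + w)) = dl t.v (dl s.v v) + dl t.v (dl s.v w)
      rw [map_add, map_add])

theorem Lam_apply (h2 : ∀ v : V, v + v = 0) (h : Fr a T p E F B) (v : V) (s t : AB B h.comm) :
    h.Lam h2 v s t = dl t.v (dl s.v v) := rfl

theorem Lam_symm (h2 : ∀ v : V, v + v = 0) (h : Fr a T p E F B) (v : V) (s t : AB B h.comm) :
    h.Lam h2 v s t = h.Lam h2 v t s :=
  dl_comm (h.comm _ t.v_mem _ s.v_mem) v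

theorem Lam_self (h2 : ∀ v : V, v + v = 0) (h : Fr a T p E F B) (v : V) (s : AB B h.comm) :
    h.Lam h2 v s s = 0 :=
  dl_self h2 (h.sq _ s.v_mem) v

theorem Lam_E (h2 : ∀ v : V, v + v = 0) (h : Fr a T p E F B) {e : V} (he : e ∈ E) (s t : AB B h.comm) :
    h.Lam h2 e s t = 0 :=
  h.dl0 h2 t.v_mem (h.dlF s.v_mem he)

theorem rad_iff (h2 : ∀ v : V, v + v = 0) (h : Fr a T p E F B) (φ : V →+ ZMod 2) {w : V} (hw : w ∉ E)
    (s : AB B h.comm) : (∀ t, φ (h.Lam h2 w s t) = 0) ↔ ∀ e ∈ E, φ (dl s.v e) = 0 := by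
  constructor
  · intro h1 e he
    obtain ⟨t, ht, hf⟩ := h.surj w hw e he
    have h3 := h1 (AB.mk t ht)
    rw [Lam_symm, Lam_apply, AB.v_mk] at h3
    have h4 : dl s.v (dl t w) = dl s.v e := by
      rw [← add_eq_zero' h2, ← map_add]
      exact h.dl0 h2 s.v_mem hf
    rwa [h4] at h3
  · intro h1 t
    rw [Lam_symm, Lam_apply]
    exact h1 _ (h.dlE t.v_mem w)

/-- **(PF)** -/
theorem pf [Finite Y] [Finite V] (h2 : ∀ v : V, v + v = 0) (h : Fr a T p E F B) (φ : V →+ ZMod 2) :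
    (∀ b ∈ B, ∀ e ∈ E, φ (dl b e) = 0) ∨ ∀ w, w ∉ E → ∀ R : AddSubgroup (AB B h.comm),
      (∀ s, s ∈ R ↔ ∀ t, φ (h.Lam h2 w s t) = 0) → a ^ 2 ≤ R.index := by
  by_cases h0 : ∀ b ∈ B, ∀ e ∈ E, φ (dl b e) = 0
  · exact Or.inl h0
  refine Or.inr fun w hw R hR => ?_
  let γ : V →+ AB B h.comm →+ AB B h.comm →+ ZMod 2 :=
    AddMonoidHom.mk' (fun v => AddMonoidHom.mk' (fun s => φ.comp (h.Lam h2 v s)) (by
      intro s s'
      ext t
      change φ (h.Lam h2 v (s + s') t) = φ (h.Lam h2 v s t) + φ (h.Lam h2 v s' t)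
      rw [map_add, AddMonoidHom.add_apply, map_add])) (by
      intro v w
      ext s t
      change φ (h.Lam h2 (v + w) s t) = φ (h.Lam h2 v s t) + φ (h.Lam h2 w s t)
      rw [map_add, AddMonoidHom.add_apply, AddMonoidHom.add_apply, map_add])
  let β : (V ⧸ E) →+ AB B h.comm →+ AB B h.comm →+ ZMod 2 := QuotientAddGroup.lift E γ (by
    intro e he
    ext s t
    change φ (h.Lam h2 e s t) = 0
    rw [h.Lam_E h2 he, map_zero])
  have hβ : ∀ (v : V) (s t : AB B h.comm), β (v : V ⧸ E) s t = φ (h.Lam h2 v s t) := fun _ _ _ => rfl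
  have h3 : ∀ q : V ⧸ E, q + q = 0 := by
    intro q
    induction q using QuotientAddGroup.induction_on with
    | _ v => rw [← QuotientAddGroup.mk_add, h2, QuotientAddGroup.mk_zero]
  have h4 := NearFF.Pfaff.card_sq_le_index h3 (AB.two h.sq) β (by
    intro q s
    induction q using QuotientAddGroup.induction_on with
    | _ v => rw [hβ, h.Lam_self h2, map_zero]) R (by
    intro q hq s
    induction q using QuotientAddGroup.induction_on with
    | _ v =>
      have hv : v ∉ E := fun h5 => hq ((QuotientAddGroup.eq_zero_iff v).2 h5)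
      rw [hR, h.rad_iff h2 φ hw, ← h.rad_iff h2 φ hv]
      constructor
      · intro h5 t
        rw [Lam_symm]
        exact h5 t
      · intro h5 t
        rw [hβ, Lam_symm]
        exact h5 t) (by
    intro hT
    apply h0
    intro b hb e he
    have h5 : (AB.mk b hb : AB B h.comm) ∈ R := by rw [hT]; trivial
    rw [hR, h.rad_iff h2 φ hw] at h5
    exact h5 e he)
  have h5 : Nat.card (V ⧸ E) = a := by rw [← h.ind]; rfl
  rwa [h5] at h4

/-- the radical -/
def Rad (h2 : ∀ v : V, v + v = 0) (h : Fr a T p E F B) (φ : V →+ ZMod 2) (w : V) :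
    AddSubgroup (AB B h.comm) where
  carrier := {s | ∀ t, φ (h.Lam h2 w s t) = 0}
  zero_mem' := fun t => by rw [map_zero, AddMonoidHom.zero_apply, map_zero]
  add_mem' := fun {s s'} hs hs' t => by
    rw [map_add, AddMonoidHom.add_apply, map_add, hs t, hs' t, add_zero]
  neg_mem' := fun {s} hs t => by
    rw [map_neg, AddMonoidHom.neg_apply, map_neg, hs t, neg_zero]

theorem exists_fixed_vec [Finite V] (h2 : ∀ v : V, v + v = 0) (h : Fr a T p E F B) (T' : Sylow 2 Y) :
    ∃ v : V, v ≠ 0 ∧ ∀ t ∈ T', t • v = v := by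
  obtain ⟨x, hx⟩ := h.ne
  obtain ⟨v, -, h0, h1⟩ := exists_fixed h2 T'.isPGroup' (⊤ : AddSubgroup V) (fun _ _ _ _ => trivial)
    ⟨x, trivial, fun h0 => hx (h0 ▸ E.zero_mem)⟩
  exact ⟨v, h0, h1⟩

theorem mem_of_fix (h2 : ∀ v : V, v + v = 0) (h : Fr a T p E F B) {b : Y} (hb : b ∈ B) (h1 : b ≠ 1) {v : V}
    (hv : b • v = v) : v ∈ E := by
  by_contra hvE
  refine h1 (h.inj v hvE b hb ?_)
  rw [hv, h2]
  exact F.zero_mem

theorem two_pow (h : Fr a T p E F B) : IsPGroup 2 B := fun b => ⟨1, by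
  rw [pow_one, pow_two]; exact Subtype.ext (h.sq _ b.2)⟩

/-- (1) -/
theorem free [Finite Y] [Finite V] (P : Pts Y Ω) (h2 : ∀ v : V, v + v = 0) (h : Fr a T p E F B) {b : Y}
    (hb : b ∈ B) (h1 : b ≠ 1) {q : Ω} (hq : b • q = q) : q = p := by
  have h3 : IsPGroup 2 (zpowers b) := h.two_pow.to_le (zpowers_le.2 hb)
  obtain ⟨T', hT', hat⟩ := P.exists_sylow h3 (p := q) (fun r hr => by
    have h4 : zpowers b ≤ MulAction.stabilizer Y q := zpowers_le.2 hq
    exact h4 hr)
  obtain ⟨v, hv0, hv⟩ := h.exists_fixed_vec h2 T'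
  exact h.plus T' q hat ⟨v, h.mem_of_fix h2 hb h1 (hv b (hT' (mem_zpowers b))), hv0, hv⟩

theorem fixF (h : Fr a T p E F B) {v : V} (hv : ∀ t ∈ T, t • v = v) : v ∈ F :=
  h.CB v fun b hb => hv b (h.BT hb)

end Fr

end frames

end Cfsg.Agent.Omega.NO1.HE
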