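import Mathlib

/-!
# The end of (BT): points and frames (N1, text #17521, helper438)

`Pts Y Ω` : the points `Ω = {M^y}`, `M` the unique maximal subgroup over a Sylow 2-subgroup;
`Fr a T p E F B` : a frame at the Sylow subgroup `T` (point `p`) with (+), `|V / E| = a`.
-/

set_option autoImplicit false
set_option linter.unusedSectionVars false

namespace Cfsg.Agent.Omega.NO1.HE

open Subgroup
open scoped Pointwise

universe u

section tools

variable {V : Type u} [AddCommGroup V]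

theorem add_eq_zero' (h2 : ∀ v : V, v + v = 0) {a b : V} : a + b = 0 ↔ a = b := by
  constructor
  · intro h
    have : a + b + b = b := by rw [h, zero_add]
    rwa [add_assoc, h2, add_zero] at this
  · rintro rfl
    exact h2 a

theorem exists_fn (h2 : ∀ v : V, v + v = 0) (W : AddSubgroup V) {v : V} (hv : v ∉ W) :
    ∃ φ : V →+ ZMod 2, (∀ w ∈ W, φ w = 0) ∧ φ v ≠ 0 := by
  let i1 : Module (ZMod 2) V := AddCommGroup.zmodModule (n := 2) fun a => by rw [two_nsmul]; exact h2 a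
  have hv' : v ∉ AddSubgroup.toZModSubmodule 2 W := hv
  obtain ⟨f, hf, hW⟩ := Submodule.exists_le_ker_of_notMem hv'
  refine ⟨f.toAddMonoidHom, fun w hw => ?_, hf⟩
  have : w ∈ AddSubgroup.toZModSubmodule 2 W := hw
  exact hW this

theorem zmod2 (x : ZMod 2) : x = 0 ∨ x = 1 := by revert x; decide

variable {Y : Type u} [Group Y] [DistribMulAction Y V]

theorem exists_fixed [Finite V] (h2 : ∀ v : V, v + v = 0) {R : Subgroup Y} (hR : IsPGroup 2 R)
    (W : AddSubgroup V) (hW : ∀ r ∈ R, ∀ w ∈ W, r • w ∈ W) (hne : ∃ w ∈ W, w ≠ 0) :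
    ∃ w ∈ W, w ≠ 0 ∧ ∀ r ∈ R, r • w = w := by
  let _ : MulAction R W :=
    { smul := fun r w => ⟨(r : Y) • (w : V), hW r r.2 w w.2⟩
      one_smul := fun w => Subtype.ext (one_smul Y (w : V))
      mul_smul := fun r s w => Subtype.ext (mul_smul (r : Y) (s : Y) (w : V)) }
  have hs : ∀ (r : R) (w : W), ((r • w : W) : V) = (r : Y) • (w : V) := fun _ _ => rfl
  obtain ⟨w, hw, hw0⟩ := hne
  have h1 : 2 ∣ Nat.card W := by
    have h3 : addOrderOf (⟨w, hw⟩ : W) = 2 := by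
      refine addOrderOf_eq_prime ?_ ?_
      · rw [two_nsmul]; exact Subtype.ext (h2 w)
      · exact fun h => hw0 (congrArg Subtype.val h)
    rw [← h3]
    exact addOrderOf_dvd_natCard _
  have : Fact (Nat.Prime 2) := ⟨Nat.prime_two⟩
  obtain ⟨x, hx, hne⟩ := hR.exists_fixed_point_of_prime_dvd_card_of_fixed_point W h1 (a := 0) (by
    intro r
    exact Subtype.ext (smul_zero (r : Y)))
  refine ⟨x, x.2, fun h => hne (Subtype.ext h.symm), fun r hr => ?_⟩
  have := hx ⟨r, hr⟩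
  exact congrArg Subtype.val this

end tools

section pts

variable {Y : Type u} [Group Y]

/-- `T` fixes the point `p`. -/
def At {Ω : Type u} [MulAction Y Ω] (T : Sylow 2 Y) (p : Ω) : Prop := ∀ t ∈ T, t • p = p

/-- The points. -/
structure Pts (Y Ω : Type u) [Group Y] [MulAction Y Ω] : Prop where
  tr : ∀ p q : Ω, ∃ y : Y, y • p = q
  one : ∀ (T : Sylow 2 Y) (p q : Ω), At T p → At T q → p = q
  ex : ∀ T : Sylow 2 Y, ∃ p : Ω, At T p
  ne : ∀ p : Ω, ∃ q, q ≠ p
  ker : ∀ R : Subgroup Y, IsPGroup 2 R → (∀ r ∈ R, ∀ p : Ω, r • p = p) → R = ⊥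

variable {Ω : Type u} [MulAction Y Ω]

theorem mem_smul_sylow {T : Sylow 2 Y} {g y : Y} : y ∈ g • T ↔ g⁻¹ * y * g ∈ T := by
  change y ∈ ((g • T : Sylow 2 Y) : Subgroup Y) ↔ g⁻¹ * y * g ∈ (T : Subgroup Y)
  rw [Sylow.coe_subgroup_smul, Subgroup.mem_pointwise_smul_iff_inv_smul_mem, ← map_inv, MulAut.smul_def,
    MulAut.conj_apply, inv_inv]

theorem mem_conj {H : Subgroup Y} {g y : Y} : y ∈ MulAut.conj g • H ↔ g⁻¹ * y * g ∈ H := by
  rw [Subgroup.mem_pointwise_smul_iff_inv_smul_mem, ← map_inv, MulAut.smul_def,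
    MulAut.conj_apply, inv_inv]

theorem At.smul {T : Sylow 2 Y} {p : Ω} (h : At T p) (g : Y) : At (g • T) (g • p) := by
  intro y hy
  rw [mem_smul_sylow] at hy
  have h1 := h _ hy
  rw [mul_smul, mul_smul, inv_smul_eq_iff] at h1
  exact h1

theorem Pts.exists_sylow [Finite Y] (h : Pts Y Ω) {R : Subgroup Y} (hR : IsPGroup 2 R) {p : Ω}
    (hp : ∀ r ∈ R, r • p = p) : ∃ T : Sylow 2 Y, R ≤ T ∧ At T p := by
  have : Fact (Nat.Prime 2) := ⟨Nat.prime_two⟩
  obtain ⟨T0⟩ : Nonempty (Sylow 2 Y) := inferInstance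
  obtain ⟨q, hq⟩ := h.ex T0
  obtain ⟨y, rfl⟩ := h.tr q p
  have h1 := hq.smul y
  set T1 := y • T0
  set p := y • q
  have h2 : (T1 : Subgroup Y) ≤ MulAction.stabilizer Y p := fun t ht => h1 t ht
  obtain ⟨Q, hQ⟩ := (hR.comap_of_injective _ (MulAction.stabilizer Y p).subtype_injective :
    IsPGroup 2 (R.subgroupOf (MulAction.stabilizer Y p))).exists_le_sylow
  obtain ⟨s, hs⟩ := MulAction.exists_smul_eq (MulAction.stabilizer Y p) (T1.subtype h2) Q
  refine ⟨(s : Y) • T1, fun r hr => ?_, ?_⟩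
  · have h4 : (⟨r, hp r hr⟩ : MulAction.stabilizer Y p) ∈ Q := hQ (Subgroup.mem_subgroupOf.2 hr)
    rw [← hs, mem_smul_sylow] at h4
    change r ∈ (s : Y) • T1
    rw [mem_smul_sylow]
    exact h4
  · have h5 := h1.smul (s : Y)
    have h6 : (s : Y) • p = p := s.2
    rwa [h6] at h5

end pts

section frames

variable {Y : Type u} [Group Y] {V : Type u} [AddCommGroup V] [DistribMulAction Y V]
  {Ω : Type u} [MulAction Y Ω]

/-- A frame at `T`, `p`, with (+). -/
structure Fr (a : ℕ) (T : Sylow 2 Y) (p : Ω) (E F : AddSubgroup V) (B : Subgroup Y) : Prop where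
  at' : At T p
  ind : E.index = a
  BT : B ≤ T
  comm : ∀ b ∈ B, ∀ c ∈ B, b * c = c * b
  sq : ∀ b ∈ B, b * b = 1
  FE : F ≤ E
  VB : ∀ b ∈ B, ∀ v : V, b • v + v ∈ E
  EB : ∀ b ∈ B, ∀ e ∈ E, b • e + e ∈ F
  FB : ∀ b ∈ B, ∀ f ∈ F, b • f = f
  CB : ∀ v : V, (∀ b ∈ B, b • v = v) → v ∈ F
  inj : ∀ w, w ∉ E → ∀ b ∈ B, b • w + w ∈ F → b = 1
  surj : ∀ w, w ∉ E → ∀ e ∈ E, ∃ b ∈ B, b • w + w + e ∈ F
  ne : ∃ v, v ∉ E
  ne' : ∃ e ∈ E, e ∉ F
  plus : ∀ (T' : Sylow 2 Y) (q : Ω), At T' q → (∃ v ∈ E, v ≠ 0 ∧ ∀ t ∈ T', t • v = v) → q = p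

theorem smul_two (h2 : ∀ v : V, v + v = 0) (b : Y) (v : V) : b • v + v + (b • v + v) = 0 := h2 _

theorem Fr.smul {a : ℕ} {T : Sylow 2 Y} {p : Ω} {E F : AddSubgroup V} {B : Subgroup Y}
    (h : Fr a T p E F B) (g : Y) : Fr a (g • T) (g • p) (g • E) (g • F) (MulAut.conj g • B) := by
  have mE : ∀ {W : AddSubgroup V} {v : V}, v ∈ g • W ↔ g⁻¹ • v ∈ W := fun {W v} =>
    AddSubgroup.mem_pointwise_smul_iff_inv_smul_mem
  have key : ∀ (b : Y) (v : V), g⁻¹ • (b • v + v) = (g⁻¹ * b * g) • (g⁻¹ • v) + g⁻¹ • v := by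
    intro b v
    rw [smul_add, mul_smul, mul_smul, smul_inv_smul]
  have back : ∀ (b : Y) (v : V), (MulAut.conj g b) • (g • v) = g • b • v := by
    intro b v
    rw [MulAut.conj_apply, mul_smul, mul_smul, inv_smul_smul]
  have mc : ∀ b ∈ B, MulAut.conj g b ∈ MulAut.conj g • B := fun b hb => by
    rw [mem_conj, MulAut.conj_apply]
    simpa [mul_assoc] using hb
  refine
    { at' := h.at'.smul g
      ind := ?_
      BT := ?_
      comm := ?_
      sq := ?_
      FE := ?_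
      VB := ?_
      EB := ?_
      FB := ?_
      CB := ?_
      inj := ?_
      surj := ?_
      ne := ?_
      ne' := ?_
      plus := ?_ }
  · rw [← h.ind]
    have h1 : g • E = E.map (DistribMulAction.toAddEquiv V g : V →+ V) := rfl
    rw [h1]
    exact AddSubgroup.index_map_equiv E (DistribMulAction.toAddEquiv V g)
  · intro b hb
    rw [mem_conj] at hb
    change b ∈ g • T
    rw [mem_smul_sylow]
    exact h.BT hb
  · intro b hb c hc
    rw [mem_conj] at hb hc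
    have h1 := h.comm _ hb _ hc
    have h3 : g⁻¹ * (b * c) * g = g⁻¹ * (c * b) * g := by
      calc g⁻¹ * (b * c) * g = g⁻¹ * b * g * (g⁻¹ * c * g) := by group
        _ = g⁻¹ * c * g * (g⁻¹ * b * g) := h1
        _ = _ := by group
    exact mul_left_cancel (mul_right_cancel h3)
  · intro b hb
    rw [mem_conj] at hb
    have h1 := h.sq _ hb
    have h3 : g⁻¹ * (b * b) * g = g⁻¹ * 1 * g := by
      calc g⁻¹ * (b * b) * g = g⁻¹ * b * g * (g⁻¹ * b * g) := by group
        _ = 1 := h1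
        _ = _ := by group
    exact mul_left_cancel (mul_right_cancel h3)
  · intro f hf
    rw [mE] at hf ⊢
    exact h.FE hf
  · intro b hb v
    rw [mem_conj] at hb
    rw [mE, key]
    exact h.VB _ hb _
  · intro b hb e he
    rw [mem_conj] at hb
    rw [mE] at he ⊢
    rw [key]
    exact h.EB _ hb _ he
  · intro b hb f hf
    rw [mem_conj] at hb
    rw [mE] at hf
    have h1 := h.FB _ hb _ hf
    rw [mul_smul, mul_smul, smul_inv_smul] at h1
    exact smul_left_cancel _ h1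
  · intro v hv
    rw [mE]
    refine h.CB _ fun b hb => ?_
    have h1 := hv _ (mc b hb)
    rw [MulAut.conj_apply, mul_smul, mul_smul, smul_eq_iff_eq_inv_smul] at h1
    exact h1
  · intro w hw b hb h1
    rw [mem_conj] at hb
    rw [mE] at hw h1
    rw [key] at h1
    have h3 := h.inj _ hw _ hb h1
    have h4 : g⁻¹ * b * g = g⁻¹ * 1 * g := by rw [h3]; group
    exact mul_left_cancel (mul_right_cancel h4)
  · intro w hw e he
    rw [mE] at hw he
    obtain ⟨b, hb, h1⟩ := h.surj _ hw _ he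
    refine ⟨_, mc b hb, ?_⟩
    rw [mE, smul_add, smul_add]
    have h3 : g⁻¹ • (MulAut.conj g) b • w = b • g⁻¹ • w := by
      rw [MulAut.conj_apply, mul_smul, mul_smul, inv_smul_smul]
    rw [h3]
    exact h1
  · obtain ⟨v, hv⟩ := h.ne
    refine ⟨g • v, ?_⟩
    rw [mE, inv_smul_smul]
    exact hv
  · obtain ⟨e, he, hf⟩ := h.ne'
    refine ⟨g • e, ?_, ?_⟩
    · rw [mE, inv_smul_smul]; exact he
    · rw [mE, inv_smul_smul]; exact hf
  · rintro T' q hq ⟨v, hv, hv0, hfix⟩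
    rw [mE] at hv
    have h1 := h.plus (g⁻¹ • T') (g⁻¹ • q) (hq.smul g⁻¹) ⟨g⁻¹ • v, hv, fun h0 => hv0 ?_, fun t ht => ?_⟩
    · rw [← h1, smul_inv_smul]
    · rw [inv_smul_eq_iff, smul_zero] at h0
      exact h0
    · rw [mem_smul_sylow, inv_inv] at ht
      have h3 := hfix _ ht
      rw [mul_smul, mul_smul, smul_eq_iff_eq_inv_smul] at h3
      exact h3

end frames

end Cfsg.Agent.Omega.NO1.HE
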