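import Mathlib

/-!
# The coordinates of `V` at the end of (BT) (N1, text #17521 (8)-(11), helper438)

`V = X ⊕ M ⊕ D` (`X = D_0`, `D = D_∞`, `M = E_∞ ∩ E_0`), `B = B_∞` a root group (additive):
`x^b = x + τ b x + φ b x`, `m^b = m + l b m`, `d^b = d`.

* `Sys` : what the geometry gives ((8) and (9); `op` is the relation (R), inverse-free);
* `Fld` : output of (10) (Comm.lean): `B` is a 2-dimensional space over the field `k`, `X = k`, `M = B`, `D = k`,
  `τ b x = x • b`, `l b m = f b m`, `f` a nondegenerate alternating form;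
* `Coo` : output of (11) (Norm.lean): `B = M = K`, `X = D = Fix σ`, `τ b x = b x`, `l b m = Tr (b σ(m))`,
  `φ b x = N(b) x`.
-/

set_option autoImplicit false

namespace Cfsg.Agent.Omega.NO1.HE

universe u

/-- The data (8), (9). -/
structure Sys (B X M D : Type u) [AddCommGroup B] [AddCommGroup X] [AddCommGroup M] [AddCommGroup D] where
  τ : B →+ X →+ M
  l : B →+ M →+ D
  φ : B → X →+ D
  twoB : ∀ b : B, b + b = 0
  twoX : ∀ x : X, x + x = 0
  twoM : ∀ m : M, m + m = 0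
  twoD : ∀ d : D, d + d = 0
  φ_add : ∀ a b x, φ (a + b) x = φ a x + φ b x + l b (τ a x)
  lτ : ∀ b x, l b (τ b x) = 0
  τ_ne : ∀ b x, b ≠ 0 → x ≠ 0 → τ b x ≠ 0
  τ_surj : ∀ x, x ≠ 0 → ∀ m, ∃ b, τ b x = m
  φ_inj : ∀ b, b ≠ 0 → Function.Injective (φ b)
  φ_surj : ∀ b, b ≠ 0 → Function.Surjective (φ b)
  l_surj : ∀ b, b ≠ 0 → ∀ d, ∃ m, l b m = d
  l_ker : ∀ b m, b ≠ 0 → l b m = 0 → ∃ x, m = τ b x
  l_surj' : ∀ m, m ≠ 0 → ∀ d, ∃ b, l b m = d
  /-- (R) : `c` corresponds to the sum of the elements of the opposite root group belonging to `a`, `b`. -/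
  op : ∀ a b, a ≠ 0 → b ≠ 0 → a ≠ b → ∃ c, c ≠ 0 ∧
    (∀ x y, φ a x = φ b y → ∃ z, φ c z = φ a x ∧ τ c z = τ a x + τ b y ∧ φ b (z + x + y) = l b (τ a x)) ∧
    (∀ m x y, φ a x = l a m → φ b y = l b m → φ c (x + y) = l c m)
  /-- (9) : the stabiliser of two points is transitive on `B#`. -/
  trans : ∀ b1 b2, b1 ≠ 0 → b2 ≠ 0 → ∃ (hB : B ≃+ B) (hX : X ≃+ X) (hM : M ≃+ M) (hD : D ≃+ D),
    (∀ b x, hM (τ b x) = τ (hB b) (hX x)) ∧ (∀ b m, hD (l b m) = l (hB b) (hM m)) ∧ hB b1 = b2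
  ntX : ∃ x : X, x ≠ 0
  ntB : ∃ b : B, b ≠ 0

variable {B X M D : Type u} [AddCommGroup B] [AddCommGroup X] [AddCommGroup M] [AddCommGroup D]

/-- Output of (10) (Comm.lean). -/
structure Fld (S : Sys B X M D) (k : Type u) [Field k] [Module k B] where
  eX : X ≃+ k
  eM : M ≃+ B
  eD : D ≃+ k
  f : B → B → k
  hτ : ∀ b x, eM (S.τ b x) = eX x • b
  hl : ∀ b m, eD (S.l b m) = f b (eM m)
  f_add : ∀ a b c, f (a + b) c = f a c + f b c
  f_smul : ∀ (r : k) b c, f (r • b) c = r * f b c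
  f_self : ∀ b, f b b = 0
  f_symm : ∀ b c, f b c = f c b
  /-- the radical of `f b` is `k b` (so `dim B = 2` and `f` is nondegenerate) -/
  f_ker : ∀ b c, b ≠ 0 → f b c = 0 → ∃ r : k, c = r • b

/-- Output of (11) (Norm.lean). -/
structure Coo (S : Sys B X M D) (K : Type) [Field K] (σ : K ≃+* K) where
  eB : B ≃+ K
  eM : M ≃+ K
  eX : X →+ K
  eD : D →+ K
  eX_inj : Function.Injective eX
  eD_inj : Function.Injective eD
  eX_fix : ∀ x, σ (eX x) = eX x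
  eD_fix : ∀ d, σ (eD d) = eD d
  eX_surj : ∀ t, σ t = t → ∃ x, eX x = t
  eD_surj : ∀ t, σ t = t → ∃ d, eD d = t
  hτ : ∀ b x, eM (S.τ b x) = eB b * eX x
  hl : ∀ b m, eD (S.l b m) = eB b * σ (eM m) + σ (eB b) * eM m
  hφ : ∀ b x, eD (S.φ b x) = eB b * σ (eB b) * eX x

/-- (10), to be proved in Comm.lean. -/
def CommStmt : Prop :=
  ∀ (B X M D : Type u) [AddCommGroup B] [AddCommGroup X] [AddCommGroup M] [AddCommGroup D] [Finite B]
    (S : Sys B X M D), ∃ (k : Type u) (_ : Field k) (_ : Finite k) (_ : Module k B), Nonempty (Fld S k)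

/-- (11), to be proved in Norm.lean. -/
def NormStmt : Prop :=
  ∀ (B X M D : Type u) [AddCommGroup B] [AddCommGroup X] [AddCommGroup M] [AddCommGroup D] [Finite B]
    (S : Sys B X M D) (k : Type u) [Field k] [Finite k] [Module k B], Nonempty (Fld S k) →
    ∃ (K : Type) (_ : Field K) (_ : Finite K) (_ : CharP K 2) (σ : K ≃+* K), σ ≠ RingEquiv.refl K ∧
      (∀ x, σ (σ x) = x) ∧ Nat.card K = Nat.card k ^ 2 ∧ Nonempty (Coo S K σ)

end Cfsg.Agent.Omega.NO1.HE
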