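import Cfsg.Agent.Omega.NO1.HE.Uniq
import Cfsg.Agent.Omega.NO1.HE.Sys

/-!
# The end of (BT): the coordinates (8) of #17521 (N1, helper438)
-/

set_option autoImplicit false
set_option linter.unusedSectionVars false

namespace Cfsg.Agent.Omega.NO1.HE

open Subgroup
open scoped Pointwise

universe u

variable {Y : Type u} [Group Y] [Finite Y] {V : Type u} [AddCommGroup V] [Finite V] [DistribMulAction Y V]
  {Ω : Type u} [MulAction Y Ω]

/-- One frame for every point; it is unique. -/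
structure Geo (a : ℕ) (Y V Ω : Type u) [Group Y] [Finite Y] [AddCommGroup V] [Finite V]
    [DistribMulAction Y V] [MulAction Y Ω] where
  P : Pts Y Ω
  two : ∀ v : V, v + v = 0
  faith : ∀ y : Y, (∀ v : V, y • v = v) → y = 1
  T : Ω → Sylow 2 Y
  E : Ω → AddSubgroup V
  F : Ω → AddSubgroup V
  B : Ω → Subgroup Y
  fr : ∀ p, Fr a (T p) p (E p) (F p) (B p)

theorem exists_geo {a : ℕ} {T : Sylow 2 Y} {p : Ω} {E F : AddSubgroup V} {B : Subgroup Y} (P : Pts Y Ω)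
    (h2 : ∀ v : V, v + v = 0) (hf : ∀ y : Y, (∀ v : V, y • v = v) → y = 1) (h : Fr a T p E F B) :
    Nonempty (Geo a Y V Ω) := by
  have h1 : ∀ q : Ω, ∃ x : Sylow 2 Y × AddSubgroup V × AddSubgroup V × Subgroup Y,
      Fr a x.1 q x.2.1 x.2.2.1 x.2.2.2 := by
    intro q
    obtain ⟨y, rfl⟩ := P.tr p q
    exact ⟨⟨_, _, _, _⟩, h.smul y⟩
  choose f hf' using h1
  exact ⟨⟨P, h2, hf, fun q => (f q).1, fun q => (f q).2.1, fun q => (f q).2.2.1, fun q => (f q).2.2.2, hf'⟩⟩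

namespace Geo

variable {a : ℕ} (G : Geo a Y V Ω) {p q r : Ω}

theorem uE {T' : Sylow 2 Y} {E' F' : AddSubgroup V} {B' : Subgroup Y} (h : Fr a T' p E' F' B') :
    E' = G.E p :=
  le_antisymm (h.E_le' G.P G.two G.faith (G.fr p)) ((G.fr p).E_le' G.P G.two G.faith h)

theorem uF {T' : Sylow 2 Y} {E' F' : AddSubgroup V} {B' : Subgroup Y} (h : Fr a T' p E' F' B') :
    F' = G.F p :=
  le_antisymm ((G.fr p).F_le G.P G.two G.faith h) (h.F_le G.P G.two G.faith (G.fr p))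

theorem uB {T' : Sylow 2 Y} {E' F' : AddSubgroup V} {B' : Subgroup Y} (h : Fr a T' p E' F' B') :
    B' = G.B p :=
  le_antisymm ((G.fr p).B_le G.P G.two G.faith h) (h.B_le G.P G.two G.faith (G.fr p))

theorem smulE (y : Y) (p : Ω) : y • G.E p = G.E (y • p) := G.uE ((G.fr p).smul y)

theorem smulF (y : Y) (p : Ω) : y • G.F p = G.F (y • p) := G.uF ((G.fr p).smul y)

theorem smulB (y : Y) (p : Ω) : MulAut.conj y • G.B p = G.B (y • p) := G.uB ((G.fr p).smul y)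

theorem smul_memE {y : Y} {v : V} (hv : v ∈ G.E p) : y • v ∈ G.E (y • p) := by
  rw [← G.smulE]; exact AddSubgroup.smul_mem_pointwise_smul _ _ _ hv

theorem smul_memF {y : Y} {v : V} (hv : v ∈ G.F p) : y • v ∈ G.F (y • p) := by
  rw [← G.smulF]; exact AddSubgroup.smul_mem_pointwise_smul _ _ _ hv

theorem conj_memB {y b : Y} (hb : b ∈ G.B p) : y * b * y⁻¹ ∈ G.B (y • p) := by
  rw [← G.smulB, mem_conj]
  rwa [show y⁻¹ * (y * b * y⁻¹) * y = b by group]

theorem free {b : Y} (hb : b ∈ G.B p) (h1 : b ≠ 1) (hr : b • r = r) : r = p :=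
  (G.fr p).free G.P G.two hb h1 hr

theorem fix {b : Y} (hb : b ∈ G.B p) : b • p = p := (G.fr p).at' b ((G.fr p).BT hb)

theorem exists_B {s : Ω} (hr : r ≠ p) (hs : s ≠ p) : ∃ b ∈ G.B p, b • r = s :=
  (G.fr p).trans G.P G.two (G.fr s) hs.symm hr

theorem disj (hpq : p ≠ q) {w : V} (hw : w ∈ G.F p) (hw0 : w ∈ G.E q) : w = 0 :=
  (G.fr p).disj G.P G.two G.faith (G.fr q) hpq hw hw0

theorem sum (hpq : p ≠ q) (v : V) : ∃ x ∈ G.F p, ∃ y ∈ G.E q, x + y = v :=
  (G.fr p).sum G.P G.two G.faith (G.fr q) hpq v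

theorem FE {v : V} (hv : v ∈ G.F p) : v ∈ G.E p := (G.fr p).FE hv

theorem dlE {b : Y} (hb : b ∈ G.B p) (v : V) : dl b v ∈ G.E p := (G.fr p).dlE hb v

theorem dlF {b : Y} (hb : b ∈ G.B p) {v : V} (hv : v ∈ G.E p) : dl b v ∈ G.F p := (G.fr p).dlF hb hv

theorem dl0 {b : Y} (hb : b ∈ G.B p) {v : V} (hv : v ∈ G.F p) : dl b v = 0 := (G.fr p).dl0 G.two hb hv

theorem inv_eq {b : Y} (hb : b ∈ G.B p) : b⁻¹ = b := (G.fr p).inv_eq hb

theorem card_F : Nat.card (G.F p) = a := (G.fr p).card_F G.P G.two G.faith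

theorem card_B (p : Ω) : Nat.card (G.B p) = a ^ 2 := by
  obtain ⟨q, hq⟩ := G.P.ne p
  exact ((G.fr p).main G.P G.two (G.fr q) hq.symm).1

include G in
theorem a_pos (p : Ω) : 0 < a := by rw [← G.card_F (p := p)]; exact Nat.card_pos

/-- `M` -/
def M (p q : Ω) : AddSubgroup V := G.E p ⊓ G.E q

section dec

variable (p q)

/-- `X × M × D → V` -/
def sm : G.F q × G.M p q × G.F p →+ V :=
  AddMonoidHom.mk' (fun x => (x.1 : V) + ((x.2.1 : V) + (x.2.2 : V))) (by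
    intro x y
    simp only [Prod.fst_add, Prod.snd_add, AddSubgroup.coe_add]
    abel)

theorem sm_apply (x : G.F q × G.M p q × G.F p) : G.sm p q x = (x.1 : V) + ((x.2.1 : V) + (x.2.2 : V)) := rfl

variable {p q}

theorem sm_bij (hpq : p ≠ q) : Function.Bijective (G.sm p q) := by
  constructor
  · rw [injective_iff_map_eq_zero]
    rintro ⟨⟨x, hx⟩, ⟨m, hm⟩, ⟨d, hd⟩⟩ h0
    have h0 : x + (m + d) = 0 := h0
    have hx0 : x = 0 := by
      have h1 := (add_eq_zero' G.two).1 h0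
      exact G.disj hpq.symm hx (by rw [h1]; exact (G.E p).add_mem hm.1 (G.FE hd))
    subst hx0
    rw [zero_add] at h0
    have h1 := (add_eq_zero' G.two).1 h0
    subst h1
    have h3 := G.disj hpq hd hm.2
    subst h3
    rfl
  · intro v
    obtain ⟨x, hx, y, hy, rfl⟩ := G.sum hpq.symm v
    obtain ⟨d, hd, m, hm, rfl⟩ := G.sum hpq y
    have hmE : m ∈ G.E p := by
      have h5 := (G.E p).add_mem (G.FE hd) hy
      rwa [← add_assoc, G.two, zero_add] at h5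
    refine ⟨⟨⟨x, hx⟩, ⟨m, hmE, hm⟩, ⟨d, hd⟩⟩, ?_⟩
    rw [sm_apply]
    change x + (m + d) = x + (d + m)
    rw [add_comm m d]

/-- the decomposition -/
noncomputable def dec (hpq : p ≠ q) : V ≃+ G.F q × G.M p q × G.F p :=
  (AddEquiv.ofBijective (G.sm p q) (G.sm_bij hpq)).symm

theorem dec_spec (hpq : p ≠ q) (v : V) :
    ((G.dec hpq v).1 : V) + (((G.dec hpq v).2.1 : V) + ((G.dec hpq v).2.2 : V)) = v :=
  (AddEquiv.ofBijective (G.sm p q) (G.sm_bij hpq)).apply_symm_apply v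

theorem dec_eq (hpq : p ≠ q) {v x m d : V} (hx : x ∈ G.F q) (hm : m ∈ G.M p q) (hd : d ∈ G.F p)
    (h : x + (m + d) = v) : G.dec hpq v = (⟨x, hx⟩, ⟨m, hm⟩, ⟨d, hd⟩) := by
  rw [dec, AddEquiv.symm_apply_eq]
  exact h.symm

theorem dec_E (hpq : p ≠ q) {v : V} (hv : v ∈ G.E p) : (G.dec hpq v).1 = 0 := by
  have h1 := G.dec_spec hpq v
  refine Subtype.ext (G.disj hpq.symm (G.dec hpq v).1.2 ?_)
  have h3 : ((G.dec hpq v).1 : V) = v + (((G.dec hpq v).2.1 : V) + ((G.dec hpq v).2.2 : V)) := by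
    rw [← add_eq_zero' G.two]
    calc ((G.dec hpq v).1 : V) + (v + (((G.dec hpq v).2.1 : V) + ((G.dec hpq v).2.2 : V)))
        = ((G.dec hpq v).1 : V) + (((G.dec hpq v).2.1 : V) + ((G.dec hpq v).2.2 : V)) + v := by abel
      _ = 0 := by rw [h1, G.two]
  rw [h3]
  exact (G.E p).add_mem hv ((G.E p).add_mem (G.dec hpq v).2.1.2.1 (G.FE (G.dec hpq v).2.2.2))

theorem dec_F (hpq : p ≠ q) {v : V} (hv : v ∈ G.F p) : G.dec hpq v = (0, 0, ⟨v, hv⟩) :=
  G.dec_eq hpq (G.F q).zero_mem (G.M p q).zero_mem hv (by rw [zero_add, zero_add])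

theorem dec_M (hpq : p ≠ q) {v : V} (hv : v ∈ G.M p q) : G.dec hpq v = (0, ⟨v, hv⟩, 0) :=
  G.dec_eq hpq (G.F q).zero_mem hv (G.F p).zero_mem (by rw [zero_add, add_zero])

/-- `π_M`, `π_D` -/
noncomputable def pM (hpq : p ≠ q) : V →+ G.M p q :=
  (AddMonoidHom.fst _ _).comp ((AddMonoidHom.snd _ _).comp (G.dec hpq).toAddMonoidHom)

noncomputable def pD (hpq : p ≠ q) : V →+ G.F p :=
  (AddMonoidHom.snd _ _).comp ((AddMonoidHom.snd _ _).comp (G.dec hpq).toAddMonoidHom)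

theorem pM_apply (hpq : p ≠ q) (v : V) : G.pM hpq v = (G.dec hpq v).2.1 := rfl

theorem pD_apply (hpq : p ≠ q) (v : V) : G.pD hpq v = (G.dec hpq v).2.2 := rfl

theorem pM_F (hpq : p ≠ q) {v : V} (hv : v ∈ G.F p) : G.pM hpq v = 0 := by rw [pM_apply, G.dec_F hpq hv]

theorem pD_M (hpq : p ≠ q) {v : V} (hv : v ∈ G.M p q) : G.pD hpq v = 0 := by rw [pD_apply, G.dec_M hpq hv]

theorem pD_F (hpq : p ≠ q) {v : V} (hv : v ∈ G.F p) : G.pD hpq v = ⟨v, hv⟩ := by rw [pD_apply, G.dec_F hpq hv]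

theorem pM_M (hpq : p ≠ q) {v : V} (hv : v ∈ G.M p q) : G.pM hpq v = ⟨v, hv⟩ := by rw [pM_apply, G.dec_M hpq hv]

theorem E_spec (hpq : p ≠ q) {v : V} (hv : v ∈ G.E p) : ((G.pM hpq v : V)) + (G.pD hpq v : V) = v := by
  have h1 := G.dec_spec hpq v
  rw [G.dec_E hpq hv] at h1
  rw [AddSubgroup.coe_zero, zero_add] at h1
  exact h1

end dec

/-- the group `B_p` additively -/
abbrev BB (p : Ω) : Type u := AB (G.B p) (G.fr p).comm

section maps

variable (hpq : p ≠ q)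

noncomputable def tau : G.BB p →+ G.F q →+ G.M p q :=
  AddMonoidHom.mk' (fun b => (G.pM hpq).comp ((dl b.v).comp (G.F q).subtype)) (by
    intro b c
    ext x
    change ((G.pM hpq (dl (b + c).v (x : V)) : G.M p q) : V) =
      ((G.pM hpq (dl b.v (x : V)) + G.pM hpq (dl c.v (x : V)) : G.M p q) : V)
    rw [AB.v_add, dl_mul G.two, map_add, map_add,
      G.pM_F hpq (G.dlF b.v_mem (G.dlE c.v_mem _)), add_zero])

theorem tau_apply (b : G.BB p) (x : G.F q) : G.tau hpq b x = G.pM hpq (dl b.v (x : V)) := rfl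

noncomputable def ell : G.BB p →+ G.M p q →+ G.F p :=
  AddMonoidHom.mk' (fun b => (G.pD hpq).comp ((dl b.v).comp (G.M p q).subtype)) (by
    intro b c
    ext x
    change ((G.pD hpq (dl (b + c).v (x : V)) : G.F p) : V) =
      ((G.pD hpq (dl b.v (x : V)) + G.pD hpq (dl c.v (x : V)) : G.F p) : V)
    rw [AB.v_add, dl_mul G.two, map_add, map_add,
      G.dl0 b.v_mem (G.dlF c.v_mem x.2.1), map_zero, add_zero])

theorem ell_apply (b : G.BB p) (m : G.M p q) : G.ell hpq b m = G.pD hpq (dl b.v (m : V)) := rfl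

theorem coe_ell (b : G.BB p) (m : G.M p q) : (G.ell hpq b m : V) = dl b.v (m : V) := by
  rw [ell_apply, G.pD_F hpq (G.dlF b.v_mem m.2.1)]

noncomputable def phi (b : G.BB p) : G.F q →+ G.F p := (G.pD hpq).comp ((dl b.v).comp (G.F q).subtype)

theorem phi_apply (b : G.BB p) (x : G.F q) : G.phi hpq b x = G.pD hpq (dl b.v (x : V)) := rfl

/-- `[x, b] = τ_b x + φ_b x` -/
theorem dl_X (b : G.BB p) (x : G.F q) : dl b.v (x : V) = (G.tau hpq b x : V) + (G.phi hpq b x : V) :=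
  (G.E_spec hpq (G.dlE b.v_mem _)).symm

theorem smul_X (b : G.BB p) (x : G.F q) :
    b.v • (x : V) = (x : V) + ((G.tau hpq b x : V) + (G.phi hpq b x : V)) := by
  rw [smul_eq G.two, G.dl_X hpq]

theorem smul_M (b : G.BB p) (m : G.M p q) : b.v • (m : V) = (m : V) + (G.ell hpq b m : V) := by
  rw [smul_eq G.two, G.coe_ell hpq]

theorem smul_D (b : G.BB p) (d : G.F p) : b.v • (d : V) = d := (dl_eq_zero G.two).1 (G.dl0 b.v_mem d.2)

theorem v_ne {b : G.BB p} (hb : b ≠ 0) : b.v ≠ 1 := fun h => hb (AB.ext h)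

theorem phi_inj {b : G.BB p} (hb : b ≠ 0) : Function.Injective (G.phi hpq b) := by
  rw [injective_iff_map_eq_zero]
  intro x hx
  have h1 := G.smul_X hpq b x
  rw [hx, AddSubgroup.coe_zero, add_zero] at h1
  have h3 : b.v • (x : V) ∈ G.E q := by
    rw [h1]; exact (G.E q).add_mem (G.FE x.2) (G.tau hpq b x).2.2
  have h4 : b.v • q ≠ q := fun h5 => hpq (G.free b.v_mem (G.v_ne hb) h5).symm
  have h5 := G.disj h4 (G.smul_memF x.2) h3
  refine Subtype.ext ?_
  rw [← inv_smul_smul b.v (x : V), h5, smul_zero]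
  rfl

theorem phi_surj {b : G.BB p} (hb : b ≠ 0) : Function.Surjective (G.phi hpq b) :=
  ((G.phi_inj hpq hb).bijective_of_nat_card_le (by rw [G.card_F, G.card_F])).2

theorem card_M (hpq : p ≠ q) : Nat.card (G.M p q) = a ^ 2 := by
  have h1 := Nat.card_congr (G.dec hpq).toEquiv
  rw [Nat.card_prod, Nat.card_prod, G.card_F, G.card_F, (G.fr p).card_V, (G.fr p).card_E G.two,
    G.card_B, G.card_F] at h1
  have h3 := G.a_pos p
  have h4 : a * a * a ^ 2 = a * a * Nat.card (G.M p q) := by nlinarith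
  exact (Nat.eq_of_mul_eq_mul_left (by positivity) h4).symm

theorem ell_surj {b : G.BB p} (hb : b ≠ 0) (d : G.F p) : ∃ m, G.ell hpq b m = d := by
  have h1 := (G.fr p).F_eq G.P G.two G.faith b.v_mem (G.v_ne hb)
  have h3 : (d : V) ∈ Fr.Cm (G.E p) b.v := by rw [← h1]; exact d.2
  obtain ⟨e, he, h4⟩ := Fr.mem_Cm.1 h3
  refine ⟨G.pM hpq e, Subtype.ext ?_⟩
  rw [G.coe_ell hpq, ← h4]
  conv_rhs => rw [← G.E_spec hpq he, map_add, G.dl0 b.v_mem (G.pD hpq e).2, add_zero]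

theorem ell_tau (b : G.BB p) (x : G.F q) : G.ell hpq b (G.tau hpq b x) = 0 := by
  refine Subtype.ext ?_
  rw [G.coe_ell hpq]
  have h1 := dl_self G.two ((G.fr p).sq b.v b.v_mem) (x : V)
  rw [G.dl_X hpq, map_add, G.dl0 b.v_mem (G.phi hpq b x).2, add_zero] at h1
  exact h1

theorem tau_ne {b : G.BB p} {x : G.F q} (hb : b ≠ 0) (hx : x ≠ 0) : G.tau hpq b x ≠ 0 := by
  intro h0
  have h1 := G.dl_X hpq b x
  rw [h0, AddSubgroup.coe_zero, zero_add] at h1
  have hxE : (x : V) ∉ G.E p := fun h3 => hx (Subtype.ext (G.disj hpq.symm x.2 h3))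
  refine G.v_ne hb ((G.fr p).inj _ hxE b.v b.v_mem ?_)
  change dl b.v (x : V) ∈ G.F p
  rw [h1]
  exact (G.phi hpq b x).2

theorem tau_surj {x : G.F q} (hx : x ≠ 0) (m : G.M p q) : ∃ b, G.tau hpq b x = m := by
  have hxE : (x : V) ∉ G.E p := fun h3 => hx (Subtype.ext (G.disj hpq.symm x.2 h3))
  obtain ⟨b, hb, h1⟩ := (G.fr p).surj _ hxE m m.2.1
  refine ⟨AB.mk b hb, ?_⟩
  have h3 := G.pM_F hpq h1
  rw [map_add, G.pM_M hpq m.2, add_eq_zero' (V := G.M p q) (fun m => Subtype.ext (G.two m))] at h3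
  exact h3

theorem ell_ker {b : G.BB p} (hb : b ≠ 0) {m : G.M p q} (hm : G.ell hpq b m = 0) :
    ∃ x, m = G.tau hpq b x := by
  have c1 : (G.ell hpq b).range = ⊤ := by
    rw [AddMonoidHom.range_eq_top]
    intro d
    exact G.ell_surj hpq hb d
  have c2 : Nat.card (G.ell hpq b).ker * a = a ^ 2 := by
    have h1 := AddSubgroup.index_mul_card (G.ell hpq b).ker
    rw [AddSubgroup.index_ker, c1, AddSubgroup.card_top, G.card_F, G.card_M hpq] at h1
    rw [mul_comm]; exact h1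
  have c3 : Nat.card (G.ell hpq b).ker = a := by
    have h3 := G.a_pos p
    have h4 : Nat.card (G.ell hpq b).ker * a = a * a := by rw [c2]; ring
    exact Nat.eq_of_mul_eq_mul_right h3 h4
  let f : G.F q → (G.ell hpq b).ker := fun x => ⟨G.tau hpq b x, G.ell_tau hpq b x⟩
  have hf : Function.Injective f := by
    intro x y hxy
    have h1 : G.tau hpq b x = G.tau hpq b y := congrArg Subtype.val hxy
    by_contra hne
    have h3 : x - y ≠ 0 := sub_ne_zero.2 hne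
    exact G.tau_ne hpq hb h3 (by rw [map_sub, h1, sub_self])
  have hb2 := hf.bijective_of_nat_card_le (by rw [G.card_F, c3])
  obtain ⟨x, hx⟩ := hb2.2 ⟨m, hm⟩
  exact ⟨x, (congrArg Subtype.val hx).symm⟩

theorem exists_b : ∃ b : G.BB p, b ≠ 0 := by
  obtain ⟨b, hb, h1⟩ := (G.fr p).exists_ne_one
  exact ⟨AB.mk b hb, fun h => h1 (congrArg AB.v h)⟩

theorem ell_surj' {m : G.M p q} (hm : m ≠ 0) (d : G.F p) : ∃ b, G.ell hpq b m = d := by
  obtain ⟨b, hb⟩ := G.exists_b (p := p)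
  have hmF : (m : V) ∉ G.F p := fun h3 => hm (Subtype.ext (G.disj hpq h3 m.2.2))
  have h1 := (G.fr p).F_eq G.P G.two G.faith b.v_mem (G.v_ne hb)
  have h3 : (d : V) ∈ Fr.Cm (G.E p) b.v := by rw [← h1]; exact d.2
  obtain ⟨c, hc, h4⟩ := (G.fr p).exists_dl G.two (G.card_B p) b.v_mem (G.v_ne hb) m.2.1 hmF h3
  refine ⟨AB.mk c hc, Subtype.ext ?_⟩
  rw [G.coe_ell hpq]
  exact h4

/-- `0^a = ∞^α` -/
theorem exists_opp {b : Y} (hb : b ∈ G.B p) (h1 : b ≠ 1) (hpq : p ≠ q) : ∃ c ∈ G.B q, c • p = b • q :=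
  G.exists_B hpq (fun h => hpq (G.free hb h1 h).symm)

theorem opp_X {b : G.BB p} {c : Y} (hc : c ∈ G.B q) (h : c • p = b.v • q) (x : G.F q) :
    c • (G.phi hpq b x : V) = b.v • (x : V) := by
  have h1 : b.v • (x : V) ∈ G.F (c • p) := by rw [h]; exact G.smul_memF x.2
  rw [← G.smulF, AddSubgroup.mem_smul_pointwise_iff_exists] at h1
  obtain ⟨d, hd, h3⟩ := h1
  have h4 : d = (G.phi hpq b x : V) := by
    have h5 : d + (G.phi hpq b x : V) ∈ G.E q := by
      have h6 := G.smul_X hpq b x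
      rw [← h3, smul_eq G.two] at h6
      have h7 : d + (G.phi hpq b x : V) = (x : V) + (G.tau hpq b x : V) + dl c d := by
        rw [← add_eq_zero' G.two]
        calc d + (G.phi hpq b x : V) + ((x : V) + (G.tau hpq b x : V) + dl c d)
            = (d + dl c d) + ((x : V) + ((G.tau hpq b x : V) + (G.phi hpq b x : V))) := by abel
          _ = 0 := by rw [h6, G.two]
      rw [h7]
      exact (G.E q).add_mem ((G.E q).add_mem (G.FE x.2) (G.tau hpq b x).2.2) (G.dlE hc d)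
    have h6 := G.disj hpq ((G.F p).add_mem hd (G.phi hpq b x).2) h5
    exact (add_eq_zero' G.two).1 h6
  rw [← h4]
  exact h3

theorem opp_M {b : G.BB p} {c : Y} (hc : c ∈ G.B q) (h : c • p = b.v • q) (m : G.M p q) {x : G.F q}
    (hx : G.phi hpq b x = G.ell hpq b m) (hb : b ≠ 0) : dl c (m : V) = x := by
  have h0 : dl c (m : V) ∈ G.F q := G.dlF hc m.2.2
  have h1 : c • (m : V) ∈ G.E (b.v • q) := by rw [← h]; exact G.smul_memE m.2.1
  have h3 : b.v • c • (m : V) ∈ G.E q := by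
    have h4 := G.smul_memE (y := b.v) h1
    rwa [← mul_smul, (G.fr p).sq b.v b.v_mem, one_smul] at h4
  obtain ⟨x', hx'⟩ : ∃ x' : G.F q, (x' : V) = dl c (m : V) := ⟨⟨_, h0⟩, rfl⟩
  rw [smul_eq G.two c, ← hx', smul_add, G.smul_M hpq, G.smul_X hpq] at h3
  have h4 : (G.ell hpq b m : V) + (G.phi hpq b x' : V) ∈ G.E q := by
    have h5 : (G.ell hpq b m : V) + (G.phi hpq b x' : V) = (m : V) + (G.ell hpq b m : V) +
        ((x' : V) + ((G.tau hpq b x' : V) + (G.phi hpq b x' : V))) + ((m : V) + ((x' : V) + (G.tau hpq b x' : V))) := by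
      rw [← add_eq_zero' G.two]
      have e1 := G.two (G.ell hpq b m : V)
      have e2 := G.two (G.phi hpq b x' : V)
      have e3 := G.two (m : V)
      have e4 := G.two (x' : V)
      have e5 := G.two (G.tau hpq b x' : V)
      calc _ = ((G.ell hpq b m : V) + (G.ell hpq b m : V)) + ((G.phi hpq b x' : V) + (G.phi hpq b x' : V)) +
            (((m : V) + (m : V)) + (((x' : V) + (x' : V)) + ((G.tau hpq b x' : V) + (G.tau hpq b x' : V)))) := by
              abel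
        _ = 0 := by rw [e1, e2, e3, e4, e5]; simp
    rw [h5]
    exact (G.E q).add_mem h3 ((G.E q).add_mem m.2.2 ((G.E q).add_mem (G.FE x'.2) (G.tau hpq b x').2.2))
  have h5 := G.disj hpq ((G.F p).add_mem (G.ell hpq b m).2 (G.phi hpq b x').2) h4
  have h6 : G.ell hpq b m = G.phi hpq b x' := Subtype.ext ((add_eq_zero' G.two).1 h5)
  rw [← hx'] 
  rw [G.phi_inj hpq hb (hx.trans h6)]

end maps

end Geo

end Cfsg.Agent.Omega.NO1.HE
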