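import Cfsg.Agent.Omega.NO1.HE.Frame

/-!
# The end of (BT): (2)-(4) of #17521 (N1, helper438): `m = a²`, `V = [E,b] ⊕ E_0`, `B` regular
-/

set_option autoImplicit false
set_option linter.unusedSectionVars false

namespace Cfsg.Agent.Omega.NO1.HE

open Subgroup
open scoped Pointwise

universe u

variable {Y : Type u} [Group Y] [Finite Y] {V : Type u} [AddCommGroup V] [Finite V] [DistribMulAction Y V]
  {Ω : Type u} [MulAction Y Ω]

namespace Fr

variable {a : ℕ} {T T0 : Sylow 2 Y} {p q : Ω} {E F E0 F0 : AddSubgroup V} {B B0 : Subgroup Y}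

theorem card_VE (h : Fr a T p E F B) : Nat.card (V ⧸ E) = a := by rw [← h.ind]; rfl

theorem fixE (h0 : Fr a T0 q E0 F0 B0) {v : V} (hv : ∀ t ∈ T0, t • v = v) : v ∈ E0 :=
  h0.FE (h0.fixF hv)

/-- `u^b ∉ E_0` -/
theorem not_mem_smul (P : Pts Y Ω) (h2 : ∀ v : V, v + v = 0) (h : Fr a T p E F B)
    (h0 : Fr a T0 q E0 F0 B0) (hpq : p ≠ q) {T' : Sylow 2 Y} (hT' : At T' q) {u : V} (hu0 : u ≠ 0)
    (hu : ∀ t ∈ T', t • u = u) {b : Y} (hb : b ∈ B) (h1 : b • u ∈ E0) : b = 1 := by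
  by_contra hb1
  have h3 := h0.plus (b • T') (b • q) (hT'.smul b) ⟨b • u, h1, fun h4 => hu0 (by
    rw [← inv_smul_smul b u, h4, smul_zero]), fun t ht => by
      rw [mem_smul_sylow] at ht
      have h5 := hu _ ht
      rw [mul_smul, mul_smul, inv_smul_eq_iff] at h5
      exact h5⟩
  exact hpq (h.free P h2 hb hb1 h3).symm

theorem not_mem_E (h : Fr a T p E F B) (hpq : p ≠ q) {T' : Sylow 2 Y} (hT' : At T' q) {u : V}
    (hu0 : u ≠ 0) (hu : ∀ t ∈ T', t • u = u) : u ∉ E :=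
  fun h1 => hpq (h.plus T' q hT' ⟨u, h1, hu0, hu⟩).symm

theorem exists_dl_ne (h2 : ∀ v : V, v + v = 0) (h : Fr a T p E F B) : ∃ b ∈ B, ∃ e ∈ E, dl b e ≠ 0 := by
  obtain ⟨e, he, hf⟩ := h.ne'
  by_contra hcon
  push Not at hcon
  exact hf (h.CB e fun b hb => (dl_eq_zero h2).1 (hcon b hb e he))

theorem le_card_B (h2 : ∀ v : V, v + v = 0) (h : Fr a T p E F B) : a ^ 2 ≤ Nat.card B := by
  obtain ⟨b, hb, e, he, hne⟩ := h.exists_dl_ne h2
  obtain ⟨φ, -, hφ⟩ := exists_fn h2 ⊥ (v := dl b e) (fun h3 => hne (AddSubgroup.mem_bot.1 h3))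
  obtain ⟨w, hw⟩ := h.ne
  rcases h.pf h2 φ with h3 | h3
  · exact absurd (h3 b hb e he) hφ
  · have h4 := h3 w hw (h.Rad h2 φ w) (fun s => Iff.rfl)
    exact h4.trans (Nat.le_of_dvd Nat.card_pos (AddSubgroup.index_dvd_card _))

/-- (2) -/
theorem main (P : Pts Y Ω) (h2 : ∀ v : V, v + v = 0) (h : Fr a T p E F B)
    (h0 : Fr a T0 q E0 F0 B0) (hpq : p ≠ q) : Nat.card B = a ^ 2 ∧
      ∀ ψ : V →+ ZMod 2, (∀ e ∈ E0, ψ e = 0) → (∃ v, ψ v ≠ 0) → ∃ b ∈ B, ∃ e ∈ E, ψ (dl b e) ≠ 0 := by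
  obtain ⟨u, hu0, hu⟩ := h0.exists_fixed_vec h2 T0
  have huE : u ∉ E := h.not_mem_E hpq h0.at' hu0 hu
  have huE0 : u ∈ E0 := h0.fixE hu
  have hQ : ∀ x : V ⧸ E0, x + x = 0 := by
    intro x
    induction x using QuotientAddGroup.induction_on with
    | _ v => rw [← QuotientAddGroup.mk_add, h2, QuotientAddGroup.mk_zero]
  let L : AB B h.comm →+ AB B h.comm →+ V ⧸ E0 :=
    AddMonoidHom.mk' (fun s => (QuotientAddGroup.mk' E0).comp (h.Lam h2 u s)) (by
      intro s s'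
      ext t
      change ((h.Lam h2 u (s + s') t : V) : V ⧸ E0) = (h.Lam h2 u s t : V) + (h.Lam h2 u s' t : V)
      rw [map_add, AddMonoidHom.add_apply]
      rfl)
  have hL : ∀ s t, L s t = ((h.Lam h2 u s t : V) : V ⧸ E0) := fun _ _ => rfl
  have hg : ∀ s t : AB B h.comm, ((dl (s + t).v u : V) : V ⧸ E0) = (dl s.v u : V) + (dl t.v u : V) + L s t := by
    intro s t
    rw [hL, AB.v_add, dl_mul h2, h.Lam_symm h2, Lam_apply]
    rfl
  have h3 := gauss_one (AB.two h.sq) hQ (fun s : AB B h.comm => ((dl s.v u : V) : V ⧸ E0)) L hg (by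
    intro s hs
    rw [QuotientAddGroup.eq_zero_iff] at hs
    refine AB.ext (h.not_mem_smul P h2 h0 hpq h0.at' hu0 hu s.v_mem ?_)
    rw [smul_eq h2]
    exact E0.add_mem huE0 hs) (by
    intro ψ
    rcases h.pf h2 (ψ.comp (QuotientAddGroup.mk' E0)) with h4 | h4
    · left
      intro s t
      exact h4 t.v t.v_mem _ (h.dlE s.v_mem u)
    · right
      intro R hR
      rw [h0.card_VE]
      exact h4 u huE R hR)
  rw [h0.card_VE, AB.card] at h3
  have h4 := le_antisymm h3.1 (h.le_card_B h2)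
  refine ⟨h4, fun ψ hψ hne => ?_⟩
  by_contra hcon
  push Not at hcon
  let ψ' : V ⧸ E0 →+ ZMod 2 := QuotientAddGroup.lift E0 ψ hψ
  refine h3.2 h4 ψ' ?_ ?_
  · intro h5
    obtain ⟨v, hv⟩ := hne
    apply hv
    change ψ' (v : V ⧸ E0) = 0
    rw [h5]
    rfl
  · intro s t
    exact hcon t.v t.v_mem _ (h.dlE s.v_mem u)

/-- nondegeneracy -/
theorem nd (h2 : ∀ v : V, v + v = 0) (h : Fr a T p E F B) (hm : Nat.card B = a ^ 2) {φ : V →+ ZMod 2}
    (hφ : ∃ b ∈ B, ∃ e ∈ E, φ (dl b e) ≠ 0) {w : V} (hw : w ∉ E) {s : AB B h.comm}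
    (hs : ∀ t, φ (h.Lam h2 w s t) = 0) : s = 0 := by
  rcases h.pf h2 φ with h3 | h3
  · obtain ⟨b, hb, e, he, hne⟩ := hφ
    exact absurd (h3 b hb e he) hne
  · have h4 := h3 w hw (h.Rad h2 φ w) (fun s => Iff.rfl)
    have h5 := AddSubgroup.index_mul_card (h.Rad h2 φ w)
    rw [AB.card, hm] at h5
    have h6 : Nat.card (h.Rad h2 φ w) = 1 := by
      have h7 : 0 < Nat.card (h.Rad h2 φ w) := Nat.card_pos
      have h8 : 0 < a ^ 2 := by
        rw [← hm]; exact Nat.card_pos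
      by_contra h9
      have h10 : 2 ≤ Nat.card (h.Rad h2 φ w) := by omega
      have h11 : a ^ 2 * 2 ≤ (h.Rad h2 φ w).index * Nat.card (h.Rad h2 φ w) := Nat.mul_le_mul h4 h10
      omega
    have h7 : h.Rad h2 φ w = ⊥ := AddSubgroup.eq_bot_of_card_eq _ h6
    have h8 : s ∈ h.Rad h2 φ w := hs
    rw [h7] at h8
    exact AddSubgroup.mem_bot.1 h8

theorem nd' (h2 : ∀ v : V, v + v = 0) (h : Fr a T p E F B) (hm : Nat.card B = a ^ 2) {φ : V →+ ZMod 2}
    (hφ : ∃ b ∈ B, ∃ e ∈ E, φ (dl b e) ≠ 0) {b : Y} (hb : b ∈ B) (h1 : b ≠ 1) : ∃ e ∈ E, φ (dl b e) ≠ 0 := by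
  obtain ⟨w, hw⟩ := h.ne
  by_contra hcon
  push Not at hcon
  have h3 := h.nd h2 hm hφ hw (s := AB.mk b hb) ((h.rad_iff h2 φ hw _).2 hcon)
  exact h1 (congrArg AB.v h3)

/-- `[E, b]` -/
def Cm (E : AddSubgroup V) (b : Y) : AddSubgroup V := E.map (dl b)

theorem mem_Cm {E : AddSubgroup V} {b : Y} {v : V} : v ∈ Cm E b ↔ ∃ e ∈ E, dl b e = v := AddSubgroup.mem_map

theorem Cm_le_F (h : Fr a T p E F B) {b : Y} (hb : b ∈ B) : Cm E b ≤ F := by
  intro v hv
  obtain ⟨e, he, rfl⟩ := mem_Cm.1 hv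
  exact h.dlF hb he

/-- (3) : `[E, b] = [E, B]` -/
theorem mem_Cm_of (h2 : ∀ v : V, v + v = 0) (h : Fr a T p E F B) (hm : Nat.card B = a ^ 2) {b : Y}
    (hb : b ∈ B) (h1 : b ≠ 1) {c : Y} (hc : c ∈ B) {e : V} (he : e ∈ E) : dl c e ∈ Cm E b := by
  by_contra hcon
  obtain ⟨φ, hφ, hne⟩ := exists_fn h2 (Cm E b) hcon
  obtain ⟨e', he', h3⟩ := h.nd' h2 hm ⟨c, hc, e, he, hne⟩ hb h1
  exact h3 (hφ _ (mem_Cm.2 ⟨e', he', rfl⟩))

theorem Cm_eq (h2 : ∀ v : V, v + v = 0) (h : Fr a T p E F B) (hm : Nat.card B = a ^ 2) {b c : Y}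
    (hb : b ∈ B) (h1 : b ≠ 1) (hc : c ∈ B) (h1' : c ≠ 1) : Cm E b = Cm E c := by
  apply le_antisymm
  · intro v hv
    obtain ⟨e, he, rfl⟩ := mem_Cm.1 hv
    exact h.mem_Cm_of h2 hm hc h1' hb he
  · intro v hv
    obtain ⟨e, he, rfl⟩ := mem_Cm.1 hv
    exact h.mem_Cm_of h2 hm hb h1 hc he

theorem card_V (h : Fr a T p E F B) : Nat.card V = a * Nat.card E := by
  rw [← h.ind, AddSubgroup.index_mul_card]

theorem card_E (h2 : ∀ v : V, v + v = 0) (h : Fr a T p E F B) : Nat.card E = Nat.card B * Nat.card F := by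
  obtain ⟨w, hw⟩ := h.ne
  let g : B × F → E := fun x => ⟨dl (x.1 : Y) w + x.2, E.add_mem (h.dlE x.1.2 w) (h.FE x.2.2)⟩
  have hg : Function.Bijective g := by
    constructor
    · rintro ⟨⟨b, hb⟩, ⟨f, hf⟩⟩ ⟨⟨c, hc⟩, ⟨f', hf'⟩⟩ h1
      have h3 : dl b w + f = dl c w + f' := congrArg Subtype.val h1
      have h4 : dl b w + dl c w = f + f' := by
        have : dl b w + dl c w + (f + f') = 0 := by
          calc dl b w + dl c w + (f + f') = (dl b w + f) + (dl c w + f') := by abel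
            _ = 0 := by rw [h3, h2]
        exact (add_eq_zero' h2).1 this
      have h5 : dl (c * b) w ∈ F := by
        rw [dl_mul h2, add_comm (dl c w) (dl b w), h4]
        exact F.add_mem (F.add_mem hf hf') (h.dlF hc (h.dlE hb w))
      have h6 := h.inj w hw (c * b) (B.mul_mem hc hb) h5
      have h7 : c = b := by
        have h8 := h.sq c hc
        have : c * b = c * c := by rw [h6, h8]
        exact (mul_left_cancel this).symm
      subst h7
      have h8 : f = f' := add_left_cancel h3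
      subst h8
      rfl
    · rintro ⟨e, he⟩
      obtain ⟨b, hb, h1⟩ := h.surj w hw e he
      refine ⟨⟨⟨b, hb⟩, ⟨b • w + w + e, h1⟩⟩, Subtype.ext ?_⟩
      change dl b w + (dl b w + e) = e
      rw [← add_assoc, h2, zero_add]
  rw [← Nat.card_congr (Equiv.ofBijective g hg), Nat.card_prod]

/-- `|[E,b]| ≤ a` -/
theorem card_Cm_le (h2 : ∀ v : V, v + v = 0) (h : Fr a T p E F B) (hm : Nat.card B = a ^ 2) {b : Y}
    (hb : b ∈ B) (h1 : b ≠ 1) : Nat.card (Cm E b) ≤ a := by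
  -- `ρ : V × F → E`, `(v, f) ↦ [v, b] + f`
  let ρ : V × F →+ V := (dl b).comp (AddMonoidHom.fst V F) + F.subtype.comp (AddMonoidHom.snd V F)
  have hρ : ∀ x : V × F, ρ x = dl b x.1 + x.2 := fun _ => rfl
  let f : E →+ V := (dl b).comp E.subtype
  have hf : f.range = Cm E b := by
    ext v
    rw [AddMonoidHom.mem_range, mem_Cm]
    constructor
    · rintro ⟨x, rfl⟩; exact ⟨x, x.2, rfl⟩
    · rintro ⟨e, he, rfl⟩; exact ⟨⟨e, he⟩, rfl⟩
  have c1 : Nat.card (Cm E b) * Nat.card f.ker = Nat.card E := by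
    rw [← hf, ← AddSubgroup.index_ker, AddSubgroup.index_mul_card]
  have c2 : Nat.card ρ.range * Nat.card ρ.ker = Nat.card V * Nat.card F := by
    rw [← AddSubgroup.index_ker, AddSubgroup.index_mul_card, Nat.card_prod]
  have c3 : Nat.card ρ.ker ≤ Nat.card E := by
    let g : ρ.ker → E := fun x => ⟨x.1.1, by
      by_contra hx
      apply h1
      refine h.inj _ hx b hb ?_
      have h3 : dl b x.1.1 + x.1.2 = 0 := x.2
      rw [add_eq_zero' h2] at h3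
      change dl b x.1.1 ∈ F
      rw [h3]
      exact x.1.2.2⟩
    refine Nat.card_le_card_of_injective g ?_
    rintro ⟨⟨v, f⟩, hx⟩ ⟨⟨v', f'⟩, hx'⟩ h3
    have h4 : v = v' := congrArg Subtype.val h3
    subst h4
    have h5 : dl b v + f = 0 := hx
    have h6 : dl b v + f' = 0 := hx'
    rw [add_eq_zero' h2] at h5 h6
    have h7 : f = f' := Subtype.ext (h5.symm.trans h6)
    subst h7
    rfl
  have c4 : Nat.card ρ.range ≤ Nat.card f.ker := by
    let g : ρ.range → f.ker := fun x => ⟨⟨x.1, by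
      obtain ⟨y, hy⟩ := x.2
      rw [← hy, hρ]
      exact E.add_mem (h.dlE hb _) (h.FE y.2.2)⟩, by
      obtain ⟨y, hy⟩ := x.2
      change dl b x.1 = 0
      rw [← hy, hρ, map_add, dl_self h2 (h.sq b hb), h.dl0 h2 hb y.2.2, add_zero]⟩
    refine Nat.card_le_card_of_injective g ?_
    intro x y h3
    have h4 : (x : V) = y := congrArg (fun z : f.ker => ((z : E) : V)) h3
    exact Subtype.ext h4
  have c5 := h.card_E h2
  have c6 := h.card_V
  have p1 : 0 < Nat.card F := Nat.card_pos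
  have p2 : 0 < Nat.card E := Nat.card_pos
  have p3 : 0 < Nat.card f.ker := Nat.card_pos
  have p4 : 0 < Nat.card ρ.ker := Nat.card_pos
  rw [c6] at c2
  -- `a |F| ≤ |range ρ|`
  have c7 : a * Nat.card F ≤ Nat.card ρ.range := by
    have : a * Nat.card F * Nat.card E ≤ Nat.card ρ.range * Nat.card E := by
      calc a * Nat.card F * Nat.card E = a * Nat.card E * Nat.card F := by ring
        _ = Nat.card ρ.range * Nat.card ρ.ker := c2.symm
        _ ≤ _ := Nat.mul_le_mul_left _ c3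
    exact Nat.le_of_mul_le_mul_right this p2
  rw [hm] at c5
  by_contra hcon
  push Not at hcon
  have h9 : a * (a * Nat.card F) < Nat.card (Cm E b) * Nat.card f.ker :=
    Nat.mul_lt_mul_of_lt_of_le hcon (c7.trans c4) (by positivity)
  rw [c1, c5] at h9
  have : a ^ 2 * Nat.card F = a * (a * Nat.card F) := by ring
  omega

/-- (3) : `V = [E,b] + E_0` -/
theorem exists_add (P : Pts Y Ω) (h2 : ∀ v : V, v + v = 0) (h : Fr a T p E F B)
    (h0 : Fr a T0 q E0 F0 B0) (hpq : p ≠ q) {b : Y} (hb : b ∈ B) (h1 : b ≠ 1) (v : V) :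
    ∃ x ∈ Cm E b, ∃ y ∈ E0, x + y = v := by
  rw [← AddSubgroup.mem_sup]
  by_contra hcon
  obtain ⟨φ, hφ, hne⟩ := exists_fn h2 _ hcon
  obtain ⟨hm, h3⟩ := h.main P h2 h0 hpq
  obtain ⟨e, he, h4⟩ := h.nd' h2 hm (h3 φ (fun e he => hφ e (AddSubgroup.mem_sup_right he)) ⟨v, hne⟩) hb h1
  exact h4 (hφ _ (AddSubgroup.mem_sup_left (mem_Cm.2 ⟨e, he, rfl⟩)))

theorem card_Cm (P : Pts Y Ω) (h2 : ∀ v : V, v + v = 0) (h : Fr a T p E F B)
    (h0 : Fr a T0 q E0 F0 B0) (hpq : p ≠ q) {b : Y} (hb : b ∈ B) (h1 : b ≠ 1) :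
    Nat.card (Cm E b) = a ∧ ∀ x ∈ Cm E b, x ∈ E0 → x = 0 := by
  have hm := (h.main P h2 h0 hpq).1
  let f : Cm E b →+ V ⧸ E0 := (QuotientAddGroup.mk' E0).comp (Cm E b).subtype
  have hs : Function.Surjective f := by
    intro x
    induction x using QuotientAddGroup.induction_on with
    | _ v =>
      obtain ⟨x, hx, y, hy, rfl⟩ := h.exists_add P h2 h0 hpq hb h1 v
      refine ⟨⟨x, hx⟩, ?_⟩
      change ((x : V) : V ⧸ E0) = ((x + y : V) : V ⧸ E0)
      rw [QuotientAddGroup.mk_add, (QuotientAddGroup.eq_zero_iff y).2 hy, add_zero]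
  have c1 := h.card_Cm_le h2 hm hb h1
  have c2 := Nat.card_le_card_of_surjective f hs
  rw [h0.card_VE] at c2
  have c3 := le_antisymm c1 c2
  refine ⟨c3, fun x hx hx0 => ?_⟩
  have h3 : Function.Bijective f := by
    have : Nat.card (V ⧸ E0) = Nat.card (Cm E b) := by rw [h0.card_VE, c3]
    exact hs.bijective_of_nat_card_le this.ge
  have h4 : f ⟨x, hx⟩ = f 0 := by
    rw [map_zero]
    exact (QuotientAddGroup.eq_zero_iff x).2 hx0
  exact congrArg Subtype.val (h3.1 h4)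

/-- (3) : `[v, B] = I` for `v ∈ E - F` -/
theorem exists_dl (h2 : ∀ v : V, v + v = 0) (h : Fr a T p E F B) (hm : Nat.card B = a ^ 2) {b : Y}
    (hb : b ∈ B) (h1 : b ≠ 1) {v : V} (hv : v ∈ E) (hvF : v ∉ F) {i : V} (hi : i ∈ Cm E b) :
    ∃ c ∈ B, dl c v = i := by
  obtain ⟨w, hw⟩ := h.ne
  obtain ⟨s, hs, h3⟩ := h.surj w hw v hv
  have hs1 : s ≠ 1 := by
    rintro rfl
    apply hvF
    rwa [one_smul, h2, zero_add] at h3
  rw [h.Cm_eq h2 hm hb h1 hs hs1] at hi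
  obtain ⟨e, he, rfl⟩ := mem_Cm.1 hi
  obtain ⟨c, hc, h4⟩ := h.surj w hw e he
  refine ⟨c, hc, ?_⟩
  have e1 : dl c v = dl c (dl s w) := by
    rw [← add_eq_zero' h2, ← map_add]
    have : v + dl s w = s • w + w + v := by rw [dl_apply]; abel
    rw [this]
    exact h.dl0 h2 hc h3
  have e2 : dl s e = dl s (dl c w) := by
    rw [← add_eq_zero' h2, ← map_add]
    have : e + dl c w = c • w + w + e := by rw [dl_apply]; abel
    rw [this]
    exact h.dl0 h2 hs h4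
  rw [e1, e2]
  exact dl_comm (h.comm c hc s hs) w

/-- (4) -/
theorem exists_smul_mem (P : Pts Y Ω) (h2 : ∀ v : V, v + v = 0) (h : Fr a T p E F B)
    (h0 : Fr a T0 q E0 F0 B0) (hpq : p ≠ q) {v : V} (hv : v ∉ E) : ∃ b ∈ B, b • v ∈ E0 := by
  obtain ⟨hm, h3⟩ := h.main P h2 h0 hpq
  have hQ : ∀ x : V ⧸ E0, x + x = 0 := by
    intro x
    induction x using QuotientAddGroup.induction_on with
    | _ v => rw [← QuotientAddGroup.mk_add, h2, QuotientAddGroup.mk_zero]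
  let L : AB B h.comm →+ AB B h.comm →+ V ⧸ E0 :=
    AddMonoidHom.mk' (fun s => (QuotientAddGroup.mk' E0).comp (h.Lam h2 v s)) (by
      intro s s'
      ext t
      change ((h.Lam h2 v (s + s') t : V) : V ⧸ E0) = (h.Lam h2 v s t : V) + (h.Lam h2 v s' t : V)
      rw [map_add, AddMonoidHom.add_apply]
      rfl)
  have hL : ∀ s t, L s t = ((h.Lam h2 v s t : V) : V ⧸ E0) := fun _ _ => rfl
  have hg : ∀ s t : AB B h.comm, ((dl (s + t).v v : V) : V ⧸ E0) = (dl s.v v : V) + (dl t.v v : V) + L s t := by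
    intro s t
    rw [hL, AB.v_add, dl_mul h2, h.Lam_symm h2, Lam_apply]
    rfl
  obtain ⟨s, hs⟩ := gauss_two (AB.two h.sq) hQ (fun s : AB B h.comm => ((dl s.v v : V) : V ⧸ E0)) L hg (by
    rw [h0.card_VE, AB.card, hm]) (by
    intro ψ hψ s hs
    have h4 : ∃ x : V, (ψ.comp (QuotientAddGroup.mk' E0)) x ≠ 0 := by
      by_contra hcon
      push Not at hcon
      apply hψ
      ext x
      exact hcon x
    exact h.nd h2 hm (φ := ψ.comp (QuotientAddGroup.mk' E0)) (h3 _ (fun e he => by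
      change ψ ((e : V) : V ⧸ E0) = 0
      rw [(QuotientAddGroup.eq_zero_iff e).2 he, map_zero]) h4) hv hs) (v : V ⧸ E0)
  refine ⟨s.v, s.v_mem, ?_⟩
  rw [smul_eq h2, ← QuotientAddGroup.eq_zero_iff, QuotientAddGroup.mk_add, add_eq_zero' hQ]
  exact hs.symm

/-- (4) : `B` is transitive on the points `≠ p` -/
theorem trans (P : Pts Y Ω) (h2 : ∀ v : V, v + v = 0) (h : Fr a T p E F B)
    (h0 : Fr a T0 q E0 F0 B0) (hpq : p ≠ q) {r : Ω} (hr : r ≠ p) : ∃ b ∈ B, b • r = q := by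
  obtain ⟨T1⟩ : Nonempty (Sylow 2 Y) := inferInstance
  obtain ⟨r', hr'⟩ := P.ex T1
  obtain ⟨y, rfl⟩ := P.tr r' r
  have hat := hr'.smul y
  obtain ⟨v, hv0, hv⟩ := h0.exists_fixed_vec h2 (y • T1)
  have hvE : v ∉ E := h.not_mem_E (Ne.symm hr) hat hv0 hv
  obtain ⟨b, hb, h3⟩ := h.exists_smul_mem P h2 h0 hpq hvE
  refine ⟨b, hb, ?_⟩
  refine h0.plus (b • (y • T1)) _ (hat.smul b) ⟨b • v, h3, fun h4 => hv0 (by
    rw [← inv_smul_smul b v, h4, smul_zero]), fun t ht => ?_⟩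
  rw [mem_smul_sylow] at ht
  have h5 := hv _ ht
  rw [mul_smul, mul_smul, inv_smul_eq_iff] at h5
  exact h5

end Fr

end Cfsg.Agent.Omega.NO1.HE
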