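import Cfsg.Agent.Omega.NO1.HE.Count

/-!
# The end of (BT): (5)-(7) of #17521 (N1, helper438): frames depend only on the point
-/

set_option autoImplicit false
set_option linter.unusedSectionVars false

namespace Cfsg.Agent.Omega.NO1.HE

open Subgroup
open scoped Pointwise

universe u

section ev

variable {W : Type u} [AddCommGroup W]

theorem exists_ev [Finite W] (h2 : ∀ w : W, w + w = 0) (R : AddSubgroup (W →+ ZMod 2)) {φ : W →+ ZMod 2}
    (hφ : φ ∉ R) : ∃ w, (∀ r ∈ R, r w = 0) ∧ φ w ≠ 0 := by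
  let i1 : Module (ZMod 2) W := AddCommGroup.zmodModule (n := 2) fun a => by rw [two_nsmul]; exact h2 a
  let R0 : AddSubgroup (Module.Dual (ZMod 2) W) :=
    { carrier := {f | f.toAddMonoidHom ∈ R}
      zero_mem' := R.zero_mem
      add_mem' := fun {f g} hf hg => R.add_mem hf hg
      neg_mem' := fun {f} hf => R.neg_mem hf }
  have h1 : φ.toZModLinearMap 2 ∉ AddSubgroup.toZModSubmodule 2 R0 := fun h => hφ h
  obtain ⟨Φ, hΦ, hR⟩ := Submodule.exists_le_ker_of_notMem h1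
  have i3 : Module.Finite (ZMod 2) W := Module.Finite.of_finite
  refine ⟨(Module.evalEquiv (ZMod 2) W).symm Φ, fun r hr => ?_, fun h0 => hΦ ?_⟩
  · have h3 : r.toZModLinearMap 2 ∈ AddSubgroup.toZModSubmodule 2 R0 := hr
    have h4 := hR h3
    have h5 := Module.apply_evalEquiv_symm_apply (R := ZMod 2) (M := W) (r.toZModLinearMap 2) Φ
    rw [LinearMap.mem_ker.1 h4] at h5
    exact h5
  · have h5 := Module.apply_evalEquiv_symm_apply (R := ZMod 2) (M := W) (φ.toZModLinearMap 2) Φ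
    rw [← h5]
    exact h0

end ev

variable {Y : Type u} [Group Y] [Finite Y] {V : Type u} [AddCommGroup V] [Finite V] [DistribMulAction Y V]
  {Ω : Type u} [MulAction Y Ω]

namespace Fr

variable {a : ℕ} {T T0 T' : Sylow 2 Y} {p q : Ω} {E F E0 F0 E' F' : AddSubgroup V} {B B0 B' : Subgroup Y}

theorem congr' {T1 T2 : Sylow 2 Y} {p1 p2 : Ω} (h : Fr a T1 p1 E F B) (hT : T1 = T2) (hp : p1 = p2) :
    Fr a T2 p2 E F B := by
  subst hT; subst hp; exact h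

theorem exists_fr (P : Pts Y Ω) (h : Fr a T p E F B) {T' : Sylow 2 Y} {q : Ω} (hq : At T' q) :
    ∃ (E' F' : AddSubgroup V) (B' : Subgroup Y), Fr a T' q E' F' B' := by
  obtain ⟨y, hy⟩ := MulAction.exists_smul_eq Y T T'
  have h1 := h.smul y
  refine ⟨_, _, _, h1.congr' hy (P.one T' _ _ ?_ hq)⟩
  rw [← hy]
  exact h1.at'

theorem smul_mem_of (hTp : At T p) (hpq : q ≠ p) {t : Y} (ht : t ∈ T) : t • q ≠ p := by
  intro h1
  have h2 := hTp t ht
  rw [← h2] at h1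
  exact hpq (smul_left_cancel _ h1)

theorem inv_eq (h : Fr a T p E F B) {b : Y} (hb : b ∈ B) : b⁻¹ = b :=
  inv_eq_of_mul_eq_one_right (h.sq b hb)

theorem exists_T0 (P : Pts Y Ω) (T : Sylow 2 Y) (q : Ω) :
    ∃ T0 : Sylow 2 Y, (∀ t ∈ T, t • q = q → t ∈ T0) ∧ At T0 q := by
  obtain ⟨T0, h1, h2⟩ := P.exists_sylow (R := (T : Subgroup Y) ⊓ MulAction.stabilizer Y q)
    (T.isPGroup'.to_le inf_le_left) (fun r hr => hr.2)
  exact ⟨T0, fun t ht hq => h1 ⟨ht, hq⟩, h2⟩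

/-- (5) : `T = B T_H` -/
theorem exists_k (P : Pts Y Ω) (h2 : ∀ v : V, v + v = 0) (h : Fr a T p E F B)
    (h0 : Fr a T0 q E0 F0 B0) (hpq : p ≠ q) {t : Y} (ht : t ∈ T) :
    ∃ b ∈ B, ∃ k ∈ T, k • q = q ∧ t = b * k := by
  obtain ⟨b, hb, h1⟩ := h.trans P h2 h0 hpq (smul_mem_of h.at' hpq.symm ht)
  refine ⟨b, hb, b * t, T.mul_mem (h.BT hb) ht, ?_, ?_⟩
  · rw [mul_smul]
    exact h1
  · rw [← mul_assoc, h.sq b hb, one_mul]

theorem fix_one (P : Pts Y Ω) {k : Y} (hk : k ∈ T) (hfix : ∀ r : Ω, k • r = r) : k = 1 := by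
  have h1 := P.ker (zpowers k) (T.isPGroup'.to_le (zpowers_le.2 hk)) (fun r hr s => by
    have h4 : zpowers k ≤ MulAction.stabilizer Y s := zpowers_le.2 (hfix s)
    exact h4 hr)
  exact zpowers_eq_bot.1 h1

/-- (5) : `Z(T) ≤ B` -/
theorem center_le (P : Pts Y Ω) (h2 : ∀ v : V, v + v = 0) (h : Fr a T p E F B)
    (h0 : Fr a T0 q E0 F0 B0) (hpq : p ≠ q) {z : Y} (hz : z ∈ T) (hc : ∀ t ∈ T, z * t = t * z) : z ∈ B := by
  obtain ⟨b, hb, k, hkT, hk, hzk⟩ := h.exists_k P h2 h0 hpq hz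
  have hkc : ∀ c ∈ B, k * c = c * k := by
    intro c hc'
    have h3 : k = b⁻¹ * z := by rw [hzk]; group
    rw [h3, mul_assoc, hc c (h.BT hc'), ← mul_assoc, ← mul_assoc]
    congr 1
    rw [h.inv_eq hb]
    exact h.comm b hb c hc'
  have h3 : k = 1 := fix_one P hkT fun r => by
    by_cases hr : r = p
    · rw [hr]; exact h.at' k hkT
    · obtain ⟨c, hc', h4⟩ := h.trans P h2 h0 hpq hr
      have h5 : c • k • r = c • r := by
        rw [← mul_smul, ← hkc c hc', mul_smul, h4, hk]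
      exact smul_left_cancel _ h5
  rw [hzk, h3, mul_one]
  exact hb

theorem exists_ne_one (h : Fr a T p E F B) : ∃ b ∈ B, b ≠ 1 := by
  obtain ⟨e, he, hf⟩ := h.ne'
  by_contra hcon
  push Not at hcon
  exact hf (h.CB e fun b hb => by rw [hcon b hb, one_smul])

theorem exists_center (h : Fr a T p E F B) : ∃ z ∈ T, z ≠ 1 ∧ ∀ t ∈ T, z * t = t * z := by
  have : Fact (Nat.Prime 2) := ⟨Nat.prime_two⟩
  obtain ⟨b, hb, hb1⟩ := h.exists_ne_one
  have h1 : Nontrivial T := ⟨⟨b, h.BT hb⟩, 1, fun h4 => hb1 (congrArg Subtype.val h4)⟩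
  have h3 : Nontrivial (Subgroup.center T) := T.isPGroup'.center_nontrivial
  obtain ⟨⟨⟨z, hz⟩, hzc⟩, hne⟩ := exists_ne (1 : Subgroup.center T)
  refine ⟨z, hz, fun h5 => hne (Subtype.ext (Subtype.ext h5)), fun t ht => ?_⟩
  have h6 := (Subgroup.mem_center_iff.1 hzc) ⟨t, ht⟩
  exact (congrArg Subtype.val h6).symm

/-- (5) : `u^T = u^B` -/
theorem smul_eq_smul (P : Pts Y Ω) (h2 : ∀ v : V, v + v = 0) (h : Fr a T p E F B)
    (h0 : Fr a T0 q E0 F0 B0) (hpq : p ≠ q) (hT0 : ∀ t ∈ T, t • q = q → t ∈ T0) {u : V}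
    (hu : ∀ t ∈ T0, t • u = u) {t : Y} (ht : t ∈ T) : ∃ b ∈ B, t • u = b • u := by
  obtain ⟨b, hb, k, hkT, hk, rfl⟩ := h.exists_k P h2 h0 hpq ht
  exact ⟨b, hb, by rw [mul_smul, hu k (hT0 k hkT hk)]⟩

theorem smul_add_smul_mem (h2 : ∀ v : V, v + v = 0) (h : Fr a T p E F B) {b c : Y} (hb : b ∈ B)
    (hc : c ∈ B) (u : V) : b • u + c • u ∈ E := by
  rw [smul_eq h2 b, smul_eq h2 c]
  have : u + dl b u + (u + dl c u) = dl b u + dl c u := by
    calc u + dl b u + (u + dl c u) = (u + u) + (dl b u + dl c u) := by abel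
      _ = _ := by rw [h2, zero_add]
  rw [this]
  exact E.add_mem (h.dlE hb u) (h.dlE hc u)

/-- (5) : `E`, `I` do not depend on the frame at `T` -/
theorem E_le (P : Pts Y Ω) (h2 : ∀ v : V, v + v = 0) (h : Fr a T p E F B) (h' : Fr a T p E' F' B')
    {z : Y} (hz : z ∈ T) (hz1 : z ≠ 1) (hzc : ∀ t ∈ T, z * t = t * z) : E ≤ E' := by
  obtain ⟨q, hq⟩ := P.ne p
  obtain ⟨T0, hT0, hat⟩ := exists_T0 P T q
  obtain ⟨E0, F0, B0, h0⟩ := h.exists_fr P hat
  obtain ⟨u, hu0, hu⟩ := h0.exists_fixed_vec h2 T0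
  have huE := h.not_mem_E hq.symm hat hu0 hu
  have huE' := h'.not_mem_E hq.symm hat hu0 hu
  have hzB := h.center_le P h2 h0 hq.symm hz hzc
  have hzB' := h'.center_le P h2 h0 hq.symm hz hzc
  -- `[E, z] ≤ [E', z]`
  have key : ∀ e ∈ E, dl z e ∈ F' := by
    intro e he
    obtain ⟨b, hb, hf⟩ := h.surj u huE e he
    obtain ⟨c, hc, h4⟩ := h'.smul_eq_smul P h2 h0 hq.symm hT0 hu (h.BT hb)
    have h5 : b • u + u ∈ E' := by
      have := h'.smul_add_smul_mem h2 hc B'.one_mem u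
      rwa [one_smul, ← h4] at this
    have h6 : dl z e = dl z (b • u + u) := by
      rw [← add_eq_zero' h2, ← map_add, add_comm]
      exact h.dl0 h2 hzB hf
    rw [h6]
    exact h'.dlF hzB' h5
  intro e he
  by_contra he'
  exact hz1 (h'.inj e he' z hzB' (key e he))

theorem E_eq (P : Pts Y Ω) (h2 : ∀ v : V, v + v = 0) (h : Fr a T p E F B) (h' : Fr a T p E' F' B') :
    E = E' := by
  obtain ⟨z, hz, hz1, hzc⟩ := h.exists_center
  exact le_antisymm (h.E_le P h2 h' hz hz1 hzc) (h'.E_le P h2 h hz hz1 hzc)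

/-- `E` is `T`-invariant -/
theorem smul_E (P : Pts Y Ω) (h2 : ∀ v : V, v + v = 0) (h : Fr a T p E F B) {t : Y} (ht : t ∈ T) {e : V}
    (he : e ∈ E) : t • e ∈ E := by
  have h1 := h.smul t
  have h3 : t • T = T := by
    ext y
    change y ∈ t • T ↔ y ∈ T
    rw [mem_smul_sylow]
    constructor
    · intro h4
      have : y = t * (t⁻¹ * y * t) * t⁻¹ := by group
      rw [this]
      exact T.mul_mem (T.mul_mem ht h4) (T.inv_mem ht)
    · intro h4
      exact T.mul_mem (T.mul_mem (T.inv_mem ht) h4) ht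
  have h4 := h1.congr' h3 (h.at' t ht)
  rw [h.E_eq P h2 h4]
  exact AddSubgroup.smul_mem_pointwise_smul e t E he

theorem eq_of_dl (h2 : ∀ v : V, v + v = 0) (h : Fr a T p E F B) {b c : Y} (hb : b ∈ B) (hc : c ∈ B) {w : V}
    (hw : w ∉ E) (h1 : dl b w + dl c w ∈ F) : b = c := by
  have h5 : dl (c * b) w ∈ F := by
    rw [dl_mul h2, add_comm (dl c w) (dl b w)]
    exact F.add_mem h1 (h.dlF hc (h.dlE hb w))
  have h6 := h.inj w hw (c * b) (B.mul_mem hc hb) h5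
  have : c * b = c * c := by rw [h6, h.sq c hc]
  exact mul_left_cancel this

/-- (6) : `B = Q_T` -/
theorem mem_B (P : Pts Y Ω) (h2 : ∀ v : V, v + v = 0) (hf : ∀ y : Y, (∀ v : V, y • v = v) → y = 1)
    (h : Fr a T p E F B) {z : Y} (hzB : z ∈ B) (hz1 : z ≠ 1) (_hzc : ∀ t ∈ T, z * t = t * z) {t : Y}
    (ht : t ∈ T) (hE : ∀ v, dl t v ∈ E) (hI : ∀ e ∈ E, dl t e ∈ Cm E z) : t ∈ B := by
  obtain ⟨q, hq⟩ := P.ne p
  obtain ⟨T0, hT0, hat⟩ := exists_T0 P T q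
  obtain ⟨E0, F0, B0, h0⟩ := h.exists_fr P hat
  obtain ⟨u, hu0, hu⟩ := h0.exists_fixed_vec h2 T0
  have huE := h.not_mem_E hq.symm hat hu0 hu
  have huE0 := h0.fixE hu
  have hm := (h.main P h2 h0 hq.symm).1
  obtain ⟨b, hb, hbu⟩ := h.smul_eq_smul P h2 h0 hq.symm hT0 hu ht
  have hbb : ∀ v : V, b • b • v = v := fun v => by rw [← mul_smul, h.sq b hb, one_smul]
  have hku : (b * t) • u = u := by rw [mul_smul, hbu, hbb]
  have hkT : b * t ∈ T := T.mul_mem (h.BT hb) ht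
  have hkE : ∀ v, dl (b * t) v ∈ E := fun v => by
    rw [dl_mul h2]
    exact E.add_mem (E.add_mem (h.dlE hb v) (hE v)) (h.dlE hb _)
  have hkI : ∀ e ∈ E, dl (b * t) e ∈ Cm E z := fun e he => by
    rw [dl_mul h2, h.dl0 h2 hb (h.Cm_le_F hzB (hI e he)), add_zero]
    exact (Cm E z).add_mem (h.mem_Cm_of h2 hm hzB hz1 hb he) (hI e he)
  set k := b * t with hk
  have hkq : k • q = q := by
    refine h0.plus (k • T0) (k • q) (hat.smul k) ⟨u, huE0, hu0, fun s hs => ?_⟩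
    rw [mem_smul_sylow] at hs
    have h5 := hu _ hs
    rw [mul_smul, mul_smul, hku, inv_smul_eq_iff, hku] at h5
    exact h5
  have hkT0 : k ∈ T0 := hT0 k hkT hkq
  obtain ⟨z0, hz0, hz01, hz0c⟩ := h0.exists_center
  have hz0B := h0.center_le P h2 h hq hz0 hz0c
  -- step A
  have sA : ∀ x ∈ Cm E0 z0, k • x = x := by
    intro x hx
    rw [← dl_eq_zero h2]
    refine (h0.card_Cm P h2 h hq hz0B hz01).2 _ ?_ (hkE x)
    refine (Cm E0 z0).add_mem ?_ hx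
    obtain ⟨e, he, rfl⟩ := mem_Cm.1 hx
    refine mem_Cm.2 ⟨k • e, h0.smul_E P h2 hkT0 he, ?_⟩
    rw [dl_apply, dl_apply, smul_add, ← mul_smul, ← mul_smul, hz0c k hkT0]
  -- step B
  have sB : ∀ y ∈ E, y ∈ E0 → k • y = y := by
    intro y hy hy0
    rw [← dl_eq_zero h2]
    exact (h.card_Cm P h2 h0 hq.symm hzB hz1).2 _ (hkI y hy) (E0.add_mem (h0.smul_E P h2 hkT0 hy0) hy0)
  -- step C
  have sC : ∀ c ∈ B, k • c • u = c • u := by
    intro c hc
    obtain ⟨c', hc', h3⟩ := h.smul_eq_smul P h2 h0 hq.symm hT0 hu (T.mul_mem hkT (h.BT hc))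
    rw [mul_smul] at h3
    have h4 : k • c • u = u + dl c u + dl k (dl c u) := by
      rw [smul_eq h2 c u, smul_add, hku, smul_eq h2 k (dl c u)]
      abel
    have h5 : dl c' u + dl c u = dl k (dl c u) := by
      have h6 : u + dl c' u = u + (dl c u + dl k (dl c u)) := by
        rw [← smul_eq h2, ← h3, h4, add_assoc]
      rw [add_left_cancel h6]
      calc dl c u + dl k (dl c u) + dl c u = (dl c u + dl c u) + dl k (dl c u) := by abel
        _ = _ := by rw [h2, zero_add]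
    have h6 : c' = c := h.eq_of_dl h2 hc' hc huE (by
      rw [h5]
      exact h.Cm_le_F hzB (hkI _ (h.dlE hc u)))
    rw [h3, h6]
  have sI : ∀ i ∈ Cm E z, k • i = i := by
    intro i hi
    obtain ⟨e, he, rfl⟩ := mem_Cm.1 hi
    obtain ⟨c, hc, h3⟩ := h.surj u huE e he
    have h4 : dl z e = z • c • u + z • u + (c • u + u) := by
      have h6 : dl z e = dl z (c • u + u) := by
        rw [← add_eq_zero' h2, ← map_add, add_comm]
        exact h.dl0 h2 hzB h3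
      rw [h6, dl_apply, smul_add]
    rw [h4, smul_add, smul_add, smul_add, sC c hc, hku, sC z hzB, ← mul_smul z c, sC _ (B.mul_mem hzB hc)]
  have h3 : k = 1 := hf k fun v => by
    obtain ⟨x, hx, y, hy, rfl⟩ := h0.exists_add P h2 h hq hz0B hz01 v
    obtain ⟨i, hi, y', hy', rfl⟩ := h.exists_add P h2 h0 hq.symm hzB hz1 y
    have hy'E : y' ∈ E := by
      have h5 := E.add_mem (h.FE (h.Cm_le_F hzB hi)) hy
      rwa [← add_assoc, h2, zero_add] at h5
    rw [smul_add, smul_add, sA x hx, sI i hi, sB y' hy'E hy']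
  have h4 : t = b⁻¹ * k := by rw [hk]; group
  rw [h4, h3, mul_one]
  exact B.inv_mem hb

/-- (6) : `B` is normal in `T` -/
theorem conj_mem (P : Pts Y Ω) (h2 : ∀ v : V, v + v = 0) (hf : ∀ y : Y, (∀ v : V, y • v = v) → y = 1)
    (h : Fr a T p E F B) {t : Y} (ht : t ∈ T) {b : Y} (hb : b ∈ B) : t * b * t⁻¹ ∈ B := by
  obtain ⟨z, hz, hz1, hzc⟩ := h.exists_center
  obtain ⟨q, hq⟩ := P.ne p
  obtain ⟨T0, hT0, hat⟩ := exists_T0 P T q
  obtain ⟨E0, F0, B0, h0⟩ := h.exists_fr P hat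
  have hzB := h.center_le P h2 h0 hq.symm hz hzc
  have hm := (h.main P h2 h0 hq.symm).1
  have key : ∀ v : V, dl (t * b * t⁻¹) v = t • dl b (t⁻¹ • v) := by
    intro v
    rw [dl_apply, dl_apply, smul_add, smul_inv_smul, mul_smul, mul_smul]
  refine h.mem_B P h2 hf hzB hz1 hzc (T.mul_mem (T.mul_mem ht (h.BT hb)) (T.inv_mem ht)) (fun v => ?_)
    (fun e he => ?_)
  · rw [key]
    exact h.smul_E P h2 ht (h.dlE hb _)
  · rw [key]
    obtain ⟨e', he', h3⟩ := mem_Cm.1 (h.mem_Cm_of h2 hm hzB hz1 hb (h.smul_E P h2 (T.inv_mem ht) he))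
    rw [← h3]
    refine mem_Cm.2 ⟨t • e', h.smul_E P h2 ht he', ?_⟩
    rw [dl_apply, dl_apply, smul_add, ← mul_smul, ← mul_smul, hzc t ht]

theorem smul_F (P : Pts Y Ω) (h2 : ∀ v : V, v + v = 0) (hf : ∀ y : Y, (∀ v : V, y • v = v) → y = 1)
    (h : Fr a T p E F B) {t : Y} (ht : t ∈ T) {f : V} (hfF : f ∈ F) : t • f ∈ F := by
  refine h.CB _ fun b hb => ?_
  have h1 := h.conj_mem P h2 hf (T.inv_mem ht) hb
  rw [inv_inv] at h1
  have h3 := h.FB _ h1 f hfF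
  rw [mul_smul, mul_smul, inv_smul_eq_iff] at h3
  exact h3

/-- (6) : `F ∩ E_0 = 0` for a good `T_0` -/
theorem F_inf (P : Pts Y Ω) (h2 : ∀ v : V, v + v = 0) (hf : ∀ y : Y, (∀ v : V, y • v = v) → y = 1)
    (h : Fr a T p E F B) (h0 : Fr a T0 q E0 F0 B0) (hpq : p ≠ q) (hT0 : ∀ t ∈ T, t • q = q → t ∈ T0)
    {w : V} (hw : w ∈ F) (hw0 : w ∈ E0) : w = 0 := by
  by_contra hne
  obtain ⟨x, hx, hx0, hfix⟩ := exists_fixed h2 T.isPGroup' (F ⊓ E0) (by
    rintro t ht v ⟨hv, hv0⟩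
    obtain ⟨b, hb, k, hkT, hk, rfl⟩ := h.exists_k P h2 h0 hpq ht
    have h3 : k • v ∈ F := h.smul_F P h2 hf hkT hv
    rw [mul_smul, h.FB b hb _ h3]
    exact ⟨h3, h0.smul_E P h2 (hT0 k hkT hk) hv0⟩) ⟨w, ⟨hw, hw0⟩, hne⟩
  exact hpq (h0.plus T p h.at' ⟨x, hx.2, hx0, hfix⟩)

/-- (6) : `F = I` -/
theorem F_eq (P : Pts Y Ω) (h2 : ∀ v : V, v + v = 0) (hf : ∀ y : Y, (∀ v : V, y • v = v) → y = 1)
    (h : Fr a T p E F B) {b : Y} (hb : b ∈ B) (h1 : b ≠ 1) : F = Cm E b := by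
  obtain ⟨q, hq⟩ := P.ne p
  obtain ⟨T0, hT0, hat⟩ := exists_T0 P T q
  obtain ⟨E0, F0, B0, h0⟩ := h.exists_fr P hat
  refine le_antisymm (fun f hfF => ?_) (h.Cm_le_F hb)
  obtain ⟨x, hx, y, hy, rfl⟩ := h.exists_add P h2 h0 hq.symm hb h1 f
  have h3 : y ∈ F := by
    have h5 := F.add_mem (h.Cm_le_F hb hx) hfF
    rwa [← add_assoc, h2, zero_add] at h5
  rw [h.F_inf P h2 hf h0 hq.symm hT0 h3 hy, add_zero]
  exact hx

theorem disj (P : Pts Y Ω) (h2 : ∀ v : V, v + v = 0) (hf : ∀ y : Y, (∀ v : V, y • v = v) → y = 1)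
    (h : Fr a T p E F B) (h0 : Fr a T0 q E0 F0 B0) (hpq : p ≠ q) {w : V} (hw : w ∈ F) (hw0 : w ∈ E0) :
    w = 0 := by
  obtain ⟨b, hb, h1⟩ := h.exists_ne_one
  rw [h.F_eq P h2 hf hb h1] at hw
  exact (h.card_Cm P h2 h0 hpq hb h1).2 w hw hw0

theorem sum (P : Pts Y Ω) (h2 : ∀ v : V, v + v = 0) (hf : ∀ y : Y, (∀ v : V, y • v = v) → y = 1)
    (h : Fr a T p E F B) (h0 : Fr a T0 q E0 F0 B0) (hpq : p ≠ q) (v : V) :
    ∃ x ∈ F, ∃ y ∈ E0, x + y = v := by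
  obtain ⟨b, hb, h1⟩ := h.exists_ne_one
  rw [h.F_eq P h2 hf hb h1]
  exact h.exists_add P h2 h0 hpq hb h1 v

theorem card_F (P : Pts Y Ω) (h2 : ∀ v : V, v + v = 0) (hf : ∀ y : Y, (∀ v : V, y • v = v) → y = 1)
    (h : Fr a T p E F B) : Nat.card F = a := by
  obtain ⟨q, hq⟩ := P.ne p
  obtain ⟨T0, hT0, hat⟩ := exists_T0 P T q
  obtain ⟨E0, F0, B0, h0⟩ := h.exists_fr P hat
  obtain ⟨b, hb, h1⟩ := h.exists_ne_one
  rw [h.F_eq P h2 hf hb h1]
  exact (h.card_Cm P h2 h0 hq.symm hb h1).1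

/-- (7) : `F` depends only on the point -/
theorem F_le (P : Pts Y Ω) (h2 : ∀ v : V, v + v = 0) (hf : ∀ y : Y, (∀ v : V, y • v = v) → y = 1)
    (h : Fr a T p E F B) (h' : Fr a T' p E' F' B') : F' ≤ F := by
  obtain ⟨q, hq⟩ := P.ne p
  obtain ⟨T0, hT0, hat⟩ := exists_T0 P T q
  obtain ⟨E0, F0, B0, h0⟩ := h.exists_fr P hat
  have hm := (h.main P h2 h0 hq.symm).1
  have key : ∀ d ∈ F', ∀ b ∈ B, b • d ∈ E0 → d = 0 := by
    intro d hd b hb h1
    have h3 := h0.smul b⁻¹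
    refine h'.disj P h2 hf h3 ?_ hd ?_
    · intro h4
      apply hq
      have h5 : b • p = p := h.at' b (h.BT hb)
      rw [h4, smul_inv_smul] at h5
      rw [h5, ← h4]
    · rw [AddSubgroup.mem_pointwise_smul_iff_inv_smul_mem, inv_inv]
      exact h1
  intro d hd
  have hdE : d ∈ E := by
    by_contra hdE
    obtain ⟨b, hb, h1⟩ := h.exists_smul_mem P h2 h0 hq.symm hdE
    exact hdE (key d hd b hb h1 ▸ E.zero_mem)
  by_contra hdF
  obtain ⟨b, hb, h1⟩ := h.exists_ne_one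
  obtain ⟨i, hi, e, he, hie⟩ := h.exists_add P h2 h0 hq.symm hb h1 d
  obtain ⟨c, hc, h3⟩ := h.exists_dl h2 hm hb h1 hdE hdF hi
  refine hdF (key d hd c hc ?_ ▸ F.zero_mem)
  rw [smul_eq h2, h3, ← hie, add_comm, ← add_assoc, h2, zero_add]
  exact he

/-- (7) : `E` depends only on the point -/
theorem E_le' (P : Pts Y Ω) (h2 : ∀ v : V, v + v = 0) (hf : ∀ y : Y, (∀ v : V, y • v = v) → y = 1)
    (h : Fr a T p E F B) (h' : Fr a T' p E' F' B') : E ≤ E' := by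
  obtain ⟨q, hq⟩ := P.ne p
  obtain ⟨T0, hT0, hat⟩ := exists_T0 P T q
  obtain ⟨E0, F0, B0, h0⟩ := h.exists_fr P hat
  intro e he
  by_contra he'
  obtain ⟨φ, hφ, hne⟩ := exists_fn h2 E' he'
  have hφF : ∀ f ∈ F, φ f = 0 := fun f hfF => hφ f (h'.FE (h'.F_le P h2 hf h hfF))
  -- the functionals `v ↦ φ [v, b]` on `F_0`
  let η : AB B h.comm →+ (F0 →+ ZMod 2) :=
    AddMonoidHom.mk' (fun s => (φ.comp (dl s.v)).comp F0.subtype) (by
      intro s s'
      ext v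
      change φ (dl (s + s').v v) = φ (dl s.v v) + φ (dl s'.v v)
      rw [AB.v_add, dl_mul h2, map_add, map_add, hφF _ (h.dlF s.v_mem (h.dlE s'.v_mem _)), add_zero])
  have hη : ∀ (s : AB B h.comm) (v : F0), η s v = φ (dl s.v (v : V)) := fun _ _ => rfl
  have h3 : φ.comp F0.subtype ∈ η.range := by
    by_contra hcon
    obtain ⟨w, hw, hw1⟩ := exists_ev (W := F0) (fun w => Subtype.ext (h2 w)) η.range hcon
    have hw0 : (w : V) ≠ 0 := by
      intro h4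
      apply hw1
      change φ (w : V) = 0
      rw [h4, map_zero]
    have hwE : (w : V) ∉ E := fun h4 => hw0 (h0.disj P h2 hf h hq w.2 h4)
    obtain ⟨b, hb, h5⟩ := h.surj _ hwE e he
    have h6 := hw (η (AB.mk b hb)) ⟨_, rfl⟩
    rw [hη, AB.v_mk] at h6
    have h7 := hφF _ h5
    have h8 : φ (dl b (w : V)) + φ e = 0 := by
      rw [← map_add]
      exact h7
    rw [h6, zero_add] at h8
    exact hne h8
  obtain ⟨s, hs⟩ := h3
  have h4 : ∀ v ∈ F0, φ (s.v • v) = 0 := by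
    intro v hv
    have h5 := DFunLike.congr_fun hs ⟨v, hv⟩
    rw [hη] at h5
    change φ (dl s.v v) = φ v at h5
    rw [smul_eq h2, map_add, h5]
    exact CharTwo.add_self_eq_zero _
  -- the frame at `s • q`
  have h5 := h0.smul s.v
  have h6 : s.v • q ≠ p := smul_mem_of h.at' hq (h.BT s.v_mem)
  obtain ⟨x, hx, y, hy, hxy⟩ := h5.sum P h2 hf h' h6 e
  apply hne
  rw [← hxy, map_add, hφ y hy, add_zero]
  rw [AddSubgroup.mem_pointwise_smul_iff_inv_smul_mem] at hx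
  have h7 := h4 _ hx
  rwa [smul_inv_smul] at h7

/-- (7) : `B` depends only on the point -/
theorem B_le (P : Pts Y Ω) (h2 : ∀ v : V, v + v = 0) (hf : ∀ y : Y, (∀ v : V, y • v = v) → y = 1)
    (h : Fr a T p E F B) (h' : Fr a T' p E' F' B') : B' ≤ B := by
  have hE : E' = E := le_antisymm (h'.E_le' P h2 hf h) (h.E_le' P h2 hf h')
  have hF : F' = F := le_antisymm (h.F_le P h2 hf h') (h'.F_le P h2 hf h)
  subst hE hF
  let Q : Subgroup Y :=
    { carrier := {y | (∀ v, dl y v ∈ E') ∧ (∀ e ∈ E', dl y e ∈ F') ∧ ∀ f ∈ F', dl y f = 0}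
      one_mem' := ⟨fun v => by rw [dl_one h2]; exact E'.zero_mem,
        fun e _ => by rw [dl_one h2]; exact F'.zero_mem, fun f _ => dl_one h2 f⟩
      mul_mem' := by
        rintro x y ⟨x1, x2, x3⟩ ⟨y1, y2, y3⟩
        refine ⟨fun v => ?_, fun e he => ?_, fun f hfF => ?_⟩
        · rw [dl_mul h2]
          exact E'.add_mem (E'.add_mem (x1 v) (y1 v)) (x1 _)
        · rw [dl_mul h2]
          exact F'.add_mem (F'.add_mem (x2 e he) (y2 e he)) (x2 _ (y1 e))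
        · rw [dl_mul h2, x3 f hfF, y3 f hfF, map_zero, add_zero, add_zero]
      inv_mem' := by
        rintro x ⟨x1, x2, x3⟩
        have k1 : ∀ v : V, dl x⁻¹ v = x⁻¹ • dl x v := fun v => by
          rw [dl_apply, dl_apply, smul_add, inv_smul_smul, add_comm]
        have k3 : ∀ f ∈ F', x⁻¹ • f = f := fun f hfF => by
          rw [inv_smul_eq_iff, (dl_eq_zero h2).1 (x3 f hfF)]
        have k2 : ∀ e ∈ E', x⁻¹ • e ∈ E' := fun e he => by
          have h5 : x • e = e + dl x e := smul_eq h2 x e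
          have h6 : e = x⁻¹ • e + x⁻¹ • dl x e := by
            rw [← smul_add, ← h5, inv_smul_smul]
          have h7 : x⁻¹ • e = e + dl x e := by
            rw [k3 _ (x2 e he)] at h6
            calc x⁻¹ • e = x⁻¹ • e + (dl x e + dl x e) := by rw [h2, add_zero]
              _ = (x⁻¹ • e + dl x e) + dl x e := by abel
              _ = e + dl x e := by rw [← h6]
          rw [h7]
          exact E'.add_mem he (x1 e)
        refine ⟨fun v => ?_, fun e he => ?_, fun f hfF => ?_⟩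
        · rw [k1]; exact k2 _ (x1 v)
        · rw [k1, k3 _ (x2 e he)]; exact x2 e he
        · rw [k1, x3 f hfF, smul_zero] }
  have hQm : ∀ y, y ∈ Q ↔ (∀ v, dl y v ∈ E') ∧ (∀ e ∈ E', dl y e ∈ F') ∧ ∀ f ∈ F', dl y f = 0 :=
    fun _ => Iff.rfl
  have hQ2 : IsPGroup 2 Q := by
    rintro ⟨y, y1, y2, y3⟩
    refine ⟨2, Subtype.ext (hf _ fun v => ?_)⟩
    change (y ^ (2 ^ 2)) • v = v
    have e1 : ∀ v : V, dl (y * y) v = dl y (dl y v) := fun v => by
      rw [dl_mul h2, h2, zero_add]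
    have e2 : y ^ (2 ^ 2) = (y * y) * (y * y) := by
      rw [show (2 : ℕ) ^ 2 = 2 + 2 from rfl, pow_add, pow_two]
    rw [← dl_eq_zero h2, e2, dl_mul h2, h2, zero_add, e1, e1, y3 _ (y2 _ (y1 v)), map_zero]
  have hTQ : (T : Subgroup Y) ≤ normalizer (Q : Set Y) := by
    intro t ht
    have key : ∀ s ∈ T, ∀ y ∈ Q, s * y * s⁻¹ ∈ Q := by
      intro s hs y hy
      rw [hQm] at hy ⊢
      obtain ⟨y1, y2, y3⟩ := hy
      have k0 : ∀ v : V, dl (s * y * s⁻¹) v = s • dl y (s⁻¹ • v) := by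
        intro v
        rw [dl_apply, dl_apply, smul_add, smul_inv_smul, mul_smul, mul_smul]
      refine ⟨fun v => ?_, fun e he => ?_, fun f hfF => ?_⟩
      · rw [k0]; exact h.smul_E P h2 hs (y1 _)
      · rw [k0]; exact h.smul_F P h2 hf hs (y2 _ (h.smul_E P h2 (T.inv_mem hs) he))
      · rw [k0, y3 _ (h.smul_F P h2 hf (T.inv_mem hs) hfF), smul_zero]
    rw [Subgroup.mem_normalizer_iff]
    intro y
    refine ⟨key t ht y, fun h5 => ?_⟩
    have h6 := key t⁻¹ (T.inv_mem ht) _ h5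
    rwa [show t⁻¹ * (t * y * t⁻¹) * t⁻¹⁻¹ = y by group] at h6
  have hsup : IsPGroup 2 ((T : Subgroup Y) ⊔ Q : Subgroup Y) := T.isPGroup'.to_sup_of_normal_right' hQ2 hTQ
  have hQT : Q ≤ T := by
    have h5 := T.is_maximal' hsup le_sup_left
    exact le_sup_right.trans h5.le
  obtain ⟨z, hz, hz1, hzc⟩ := h.exists_center
  obtain ⟨q, hq⟩ := P.ne p
  obtain ⟨T0, hT0, hat⟩ := exists_T0 P T q
  obtain ⟨E0, F0, B0, h0⟩ := h.exists_fr P hat
  have hzB := h.center_le P h2 h0 hq.symm hz hzc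
  intro b hb
  have hbQ : b ∈ Q := ⟨fun v => h'.dlE hb v, fun e he => h'.dlF hb he, fun f hfF => h'.dl0 h2 hb hfF⟩
  refine h.mem_B P h2 hf hzB hz1 hzc (hQT hbQ) hbQ.1 (fun e he => ?_)
  rw [← h.F_eq P h2 hf hzB hz1]
  exact hbQ.2.1 e he

end Fr

end Cfsg.Agent.Omega.NO1.HE
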